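import Groth.Agent.H24Formal.SectionSystem
import Groth.Agent.H17.PullSectLocal
import Groth.Agent.H10Coh.FinType2
import Groth.Agent.H10Coh.AffinePush
import Groth.Prelude.Def_FSch3

/-! Systems of modules on thickenings as coherent formal modules. -/

set_option autoImplicit false
set_option linter.style.haveILetI false

universe u

open CategoryTheory CategoryTheory.Limits AlgebraicGeometry Opposite TopologicalSpace

namespace Groth.Agent.H24FSch

section Transition

variable {U V X : Scheme.{u}} (g : U ⟶ V) (h : V ⟶ X) (f : U ⟶ X) (hf : g ≫ h = f) {F : V.Modules} {F' : U.Modules}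
  (e : (Scheme.Modules.pullback g).obj F ≅ F')

/-- The transition map between direct images attached to `g^* F ≅ F'`. -/
noncomputable def pushTrans : (Scheme.Modules.pushforward h).obj F ⟶ (Scheme.Modules.pushforward f).obj F' :=
  (Scheme.Modules.pushforward h).map ((Scheme.Modules.pullbackPushforwardAdjunction g).unit.app F ≫
    (Scheme.Modules.pushforward g).map e.hom) ≫
    (Scheme.Modules.pushforwardComp g h).hom.app F' ≫ (Scheme.Modules.pushforwardCongr hf).hom.app F'

include hf in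
theorem pushTrans_app (W : X.Opens) : ∃ σ : Γ((Scheme.Modules.pullback g).obj F, g ⁻¹ᵁ (h ⁻¹ᵁ W)) →+ Γ((Scheme.Modules.pushforward f).obj F', W),
    Function.Bijective σ ∧ ∀ s : Γ(F, h ⁻¹ᵁ W),
      (pushTrans g h f hf e).app W s = σ (OmegaSh.pullSect g F (h ⁻¹ᵁ W) s) := by
  subst hf
  refine ⟨(e.hom.app (g ⁻¹ᵁ (h ⁻¹ᵁ W))).hom, H17.PullSect.bijective_app e.hom _, fun s => ?_⟩
  exact congr($(congrArg (fun k => Scheme.Modules.Hom.app k W)
    (show pushTrans g h (g ≫ h) rfl e = (Scheme.Modules.pushforward h).map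
      ((Scheme.Modules.pullbackPushforwardAdjunction g).unit.app F ≫ (Scheme.Modules.pushforward g).map e.hom) ≫
      (Scheme.Modules.pushforwardComp g h).hom.app F' from by
        refine congrArg (_ ≫ ·) ?_
        refine (congrArg ((Scheme.Modules.pushforwardComp g h).hom.app F' ≫ ·) ?_).trans (Category.comp_id _)
        refine Scheme.Modules.hom_ext _ _ fun W => ?_
        rw [Scheme.Modules.pushforwardCongr_hom_app_app]
        exact CategoryTheory.Functor.map_id _ _)) s)

theorem pushTrans_compat {N : X.Modules} (u : N ⟶ (Scheme.Modules.pushforward h).obj F) :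
    (Scheme.Modules.pullback g).map (((Scheme.Modules.pullbackPushforwardAdjunction h).homEquiv N F).symm u) ≫ e.hom =
      ((Scheme.Modules.pullbackComp g h).app N ≪≫ (Scheme.Modules.pullbackCongr hf).app N).hom ≫
        ((Scheme.Modules.pullbackPushforwardAdjunction f).homEquiv N F').symm (u ≫ pushTrans g h f hf e) := by
  subst hf
  let adjh := Scheme.Modules.pullbackPushforwardAdjunction h
  let adjg := Scheme.Modules.pullbackPushforwardAdjunction g
  let adjc := Scheme.Modules.pullbackPushforwardAdjunction (g ≫ h)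
  rw [← cancel_epi ((Scheme.Modules.pullbackComp g h).inv.app N)]
  apply (adjc.homEquiv _ _).injective
  have key := unit_conjugateEquiv (adjh.comp adjg) adjc (Scheme.Modules.pullbackComp g h).inv N
  rw [Scheme.Modules.conjugateEquiv_pullbackComp_inv] at key
  have hr : ∀ b, (Scheme.Modules.pullbackComp g h).inv.app N ≫
      ((Scheme.Modules.pullbackComp g h).app N ≪≫ (Scheme.Modules.pullbackCongr (rfl : g ≫ h = g ≫ h)).app N).hom ≫
        (b : (Scheme.Modules.pullback (g ≫ h)).obj N ⟶ F') = b := fun b => by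
    simp [Scheme.Modules.pullbackCongr]
  rw [hr, Equiv.apply_symm_apply, Adjunction.homEquiv_unit]
  refine Scheme.Modules.hom_ext _ _ fun W => ConcreteCategory.hom_ext _ _ fun m => ?_
  obtain ⟨σ, -, hσ⟩ := pushTrans_app g h (g ≫ h) rfl e W
  let α := (adjh.homEquiv N F).symm u
  have hu : α.app (h ⁻¹ᵁ W) (OmegaSh.pullSect h N W m) = u.app W m := by
    have := (Adjunction.homEquiv_unit adjh N F α).symm.trans (Equiv.apply_symm_apply _ u)
    exact congr($(congr(Scheme.Modules.Hom.app $this W)) m)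
  have hconj : ((Scheme.Modules.pullbackComp g h).inv.app N).app ((g ≫ h) ⁻¹ᵁ W) (OmegaSh.pullSect (g ≫ h) N W m) =
      OmegaSh.pullSect g ((Scheme.Modules.pullback h).obj N) (h ⁻¹ᵁ W) (OmegaSh.pullSect h N W m) :=
    H17.PullSect.pullSect_comp g h N W m
  show e.hom.app (g ⁻¹ᵁ (h ⁻¹ᵁ W)) (((Scheme.Modules.pullback g).map α).app (g ⁻¹ᵁ (h ⁻¹ᵁ W))
      (((Scheme.Modules.pullbackComp g h).inv.app N).app ((g ≫ h) ⁻¹ᵁ W) (OmegaSh.pullSect (g ≫ h) N W m))) =
    (pushTrans g h (g ≫ h) rfl e).app W (u.app W m)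
  rw [hconj, ← hu]
  refine (congrArg _ (H17.PullSect.pullSect_natural g α (h ⁻¹ᵁ W) (OmegaSh.pullSect h N W m)).symm).trans ?_
  exact congr($(congrArg (fun k => Scheme.Modules.Hom.app k W)
    (show (Scheme.Modules.pushforward h).map
      ((Scheme.Modules.pullbackPushforwardAdjunction g).unit.app F ≫ (Scheme.Modules.pushforward g).map e.hom) ≫
      (Scheme.Modules.pushforwardComp g h).hom.app F' = pushTrans g h (g ≫ h) rfl e from by
        refine (congrArg (_ ≫ ·) ?_).symm
        refine (congrArg ((Scheme.Modules.pushforwardComp g h).hom.app F' ≫ ·) ?_).trans (Category.comp_id _)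
        refine Scheme.Modules.hom_ext _ _ fun W => ?_
        rw [Scheme.Modules.pushforwardCongr_hom_app_app]
        exact CategoryTheory.Functor.map_id _ _)) (α.app (h ⁻¹ᵁ W) (OmegaSh.pullSect h N W m)))

end Transition

theorem isCoh_pushforward_of_isClosedImmersion {U X : Scheme.{u}} (i : U ⟶ X) [IsClosedImmersion i] {F : U.Modules}
    (hF : Coh.IsCoh F) : Coh.IsCoh ((Scheme.Modules.pushforward i).obj F) := by
  haveI : F.IsQuasicoherent := hF.1
  refine (H10Coh.isCoh_iff_finite_sections _).2 ⟨H10Coh.isQuasicoherent_pushforward_of_isAffineHom i F, fun W hW => ?_⟩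
  haveI := ((H10Coh.isCoh_iff_finite_sections F).1 hF).2 _ (hW.preimage i)
  obtain ⟨S, hS⟩ := (Module.Finite.fg_top : (⊤ : Submodule Γ(U, i ⁻¹ᵁ W) Γ(F, i ⁻¹ᵁ W)).FG)
  let S' : Finset Γ((Scheme.Modules.pushforward i).obj F, W) := S
  refine ⟨⟨S', eq_top_iff.2 fun y _ => ?_⟩⟩
  have hy : (show Γ(F, i ⁻¹ᵁ W) from y) ∈ Submodule.span Γ(U, i ⁻¹ᵁ W) (S : Set Γ(F, i ⁻¹ᵁ W)) := hS ▸ trivial
  have key : ∀ x, x ∈ Submodule.span Γ(U, i ⁻¹ᵁ W) (S : Set Γ(F, i ⁻¹ᵁ W)) →
      (show Γ((Scheme.Modules.pushforward i).obj F, W) from x) ∈ Submodule.span Γ(X, W) (S' : Set Γ((Scheme.Modules.pushforward i).obj F, W)) := by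
    intro x hx
    induction hx using Submodule.span_induction with
    | mem x hx => exact Submodule.subset_span hx
    | zero => exact Submodule.zero_mem _
    | add x y _ _ hx hy => exact Submodule.add_mem _ hx hy
    | smul r x _ hx =>
      obtain ⟨r', rfl⟩ := i.app_surjective W hW r
      exact Submodule.smul_mem _ r' hx
  exact key _ hy

theorem ker_app_congr {U X : Scheme.{u}} {f f' : U ⟶ X} (e : f = f') (W : X.Opens) :
    RingHom.ker (f.app W).hom = RingHom.ker (f'.app W).hom := by subst e; rfl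

section Levels

variable {A : Type u} [CommRing A] {X : Scheme.{u}} [X.Over (Spec (CommRingCat.of A))] (J : Ideal A)
  {Xn : ℕ → Scheme.{u}} (ι : ∀ n, Xn n ⟶ Xn (n + 1)) (i : ∀ n, Xn n ⟶ X) [∀ n, IsClosedImmersion (i n)]
  (hι : ∀ n, ι n ≫ i (n + 1) = i n)
  (hker : ∀ (n : ℕ) (W : X.Opens), IsAffineOpen W →
    RingHom.ker ((i n).app W).hom = (J ^ (n + 1)).map (H24Formal.scalA A W))

include hker in
theorem smulMod_pushforward_eq_zero {n : ℕ} {a : A} (ha : a ∈ J ^ (n + 1)) (F : (Xn n).Modules) :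
    Formal.smulMod A ((Scheme.Modules.pushforward (i n)).obj F) a = 0 := by
  refine Scheme.Modules.hom_ext _ _ fun W => ConcreteCategory.hom_ext _ _ fun s => ?_
  refine H11Tilde.eq_of_locally _ _ fun x hx => ?_
  obtain ⟨V, hV, hxV, hle⟩ := exists_isAffineOpen_mem_and_subset (U := W) hx
  have hle' : V ≤ W := hle
  refine ⟨V, hle', hxV, ?_⟩
  rw [← H11Tilde.app_map_apply, ← H11Tilde.app_map_apply]
  let s' : Γ(F, (i n) ⁻¹ᵁ V) := ((Scheme.Modules.pushforward (i n)).obj F).presheaf.map (homOfLE hle').op s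
  show (i n).app V (H24Formal.scalA A V a) • s' = 0
  have h0 : (i n).app V (H24Formal.scalA A V a) = 0 := by
    rw [← RingHom.mem_ker, hker n V hV]
    exact Ideal.mem_map_of_mem _ ha
  rw [h0, zero_smul]

/-- The direct images of a system of modules. -/
noncomputable def pushSys (F : ∀ n, (Xn n).Modules)
    (e : ∀ n, (Scheme.Modules.pullback (ι n)).obj (F (n + 1)) ≅ F n) : ℕᵒᵖ ⥤ X.Modules :=
  Functor.ofOpSequence (X := fun n => (Scheme.Modules.pushforward (i n)).obj (F n))
    (fun n => pushTrans (ι n) (i (n + 1)) (i n) (hι n) (e n))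

theorem pushSys_map_succ (F : ∀ n, (Xn n).Modules) (e : ∀ n, (Scheme.Modules.pullback (ι n)).obj (F (n + 1)) ≅ F n)
    (n : ℕ) : (pushSys ι i hι F e).map (homOfLE (Nat.le_succ n)).op = pushTrans (ι n) (i (n + 1)) (i n) (hι n) (e n) :=
  Functor.ofOpSequence_map_homOfLE_succ _ n

include hker in
theorem isCohFormal_pushSys (F : ∀ n, (Xn n).Modules) (hF : ∀ n, Coh.IsCoh (F n))
    (e : ∀ n, (Scheme.Modules.pullback (ι n)).obj (F (n + 1)) ≅ F n) :
    Formal.IsCohFormal J (pushSys ι i hι F e) := by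
  refine ⟨fun n => isCoh_pushforward_of_isClosedImmersion (i n) (hF n),
    fun n a ha => smulMod_pushforward_eq_zero J i hker ha (F n), fun n => ?_⟩
  rw [pushSys_map_succ]
  haveI : IsClosedImmersion (ι n ≫ i (n + 1)) := by rw [hι]; infer_instance
  haveI : IsClosedImmersion (ι n) := IsClosedImmersion.of_comp (ι n) (i (n + 1))
  let G := (Scheme.Modules.pushforward (i (n + 1))).obj (F (n + 1))
  let t := pushTrans (ι n) (i (n + 1)) (i n) (hι n) (e n)
  have hz : Formal.smulFamily (J ^ (n + 1)) G ≫ t = 0 :=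
    H24Formal.smulFamily_comp_eq_zero _ fun a ha => smulMod_pushforward_eq_zero J i hker ha (F n)
  refine ⟨hz, ?_⟩
  have hquot : ∀ V : X.Opens, IsAffineOpen V → H17.PullSect.IsQuotOn (ι n) (F (n + 1)) (i (n + 1) ⁻¹ᵁ V) := fun V hV =>
    H17.PullSect.isQuotOn_of_isAffineOpen (ι n) (F (n + 1)) (hF (n + 1)).1 (hV.preimage _)
  haveI : Epi t := by
    refine H11Tilde.epi_of_locally_surjective _ fun W s x hx => ?_
    obtain ⟨V, hV, hxV, hle⟩ := exists_isAffineOpen_mem_and_subset (U := W) hx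
    refine ⟨V, hle, hxV, ?_⟩
    obtain ⟨σ, hσ, hσt⟩ := pushTrans_app (ι n) (i (n + 1)) (i n) (hι n) (e n) V
    obtain ⟨z, hz⟩ := hσ.2 (((Scheme.Modules.pushforward (i n)).obj (F n)).presheaf.map (homOfLE hle).op s)
    obtain ⟨y, rfl⟩ := (hquot V hV).1 z
    exact ⟨y, (hσt y).trans hz⟩
  have hexact : (ShortComplex.mk _ _ hz).Exact := by
    refine H11Tilde.exact_of_locally _ fun W s hs x hx => ?_
    obtain ⟨V, hV, hxV, hle⟩ := exists_isAffineOpen_mem_and_subset (U := W) hx
    have hle' : V ≤ W := hle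
    refine ⟨V, hle', hxV, ?_⟩
    let S := ShortComplex.mk _ _ hz
    let s' : Γ(G, V) := G.presheaf.map (homOfLE hle').op s
    obtain ⟨σ, hσ, hσt⟩ := pushTrans_app (ι n) (i (n + 1)) (i n) (hι n) (e n) V
    have hs' : OmegaSh.pullSect (ι n) (F (n + 1)) (i (n + 1) ⁻¹ᵁ V) s' = 0 := by
      refine hσ.1 ((hσt s').symm.trans ?_)
      refine ((H11Tilde.app_map_apply t hle' s).trans ((congrArg _ hs).trans (map_zero _))).trans (map_zero σ).symm
    have hmem := (hquot V hV).2 s' hs'
    let P : Γ(G, V) → Prop := fun q => ∃ p, (Formal.smulFamily (J ^ (n + 1)) G).app V p = q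
    have Padd : ∀ q q', P q → P q' → P (q + q') := by
      rintro _ _ ⟨p, rfl⟩ ⟨p', rfl⟩; exact ⟨p + p', map_add _ p p'⟩
    have Psmul : ∀ (c : Γ(X, V)) q, P q → P (c • q) := by
      rintro c _ ⟨p, rfl⟩; exact ⟨c • p, Scheme.Modules.Hom.app_smul _ _ _⟩
    have hP : ∀ r₀ ∈ (J ^ (n + 1)).map (H24Formal.scalA A V), ∀ y : Γ(G, V), P (r₀ • y) := by
      intro r₀ hr
      induction hr using Submodule.span_induction with
      | mem r hr =>
        obtain ⟨b, hb, rfl⟩ := hr
        intro y
        exact ⟨(Sigma.ι (fun _ : (J ^ (n + 1) : Ideal A) => G) ⟨b, hb⟩).app V y,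
          congr($(congrArg (fun k => Scheme.Modules.Hom.app k V)
            (Sigma.ι_desc (fun a : (J ^ (n + 1) : Ideal A) => Formal.smulMod A G (a : A)) ⟨b, hb⟩)) y)⟩
      | zero => intro y; exact ⟨0, by rw [zero_smul]; exact map_zero _⟩
      | add r r' _ _ h h' => intro y; rw [add_smul]; exact Padd _ _ (h y) (h' y)
      | smul c r _ h => intro y; rw [smul_eq_mul, mul_smul]; exact Psmul c _ (h y)
    have hgoal : P s' := by
      refine Submodule.smul_induction_on (p := fun (q : Γ(F (n + 1), i (n + 1) ⁻¹ᵁ V)) => P q) hmem (fun r hr y _ => ?_) (fun q q' h h' => Padd _ _ h h')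
      obtain ⟨r₀, rfl⟩ := (i (n + 1)).app_surjective V hV r
      have hr₀ : r₀ ∈ (J ^ (n + 1)).map (H24Formal.scalA A V) := by
        rw [← hker n V hV, ← ker_app_congr (hι n) V, RingHom.mem_ker, Scheme.Hom.comp_app]
        exact hr
      exact hP r₀ hr₀ y
    exact hgoal
  have h1 : Mono (cokernel.desc _ t hz) := (ShortComplex.exact_iff_mono_cokernel_desc _).mp hexact
  have h2 : Epi (cokernel.desc _ t hz) := epi_of_epi_fac (cokernel.π_desc _ _ hz)
  exact @isIso_of_mono_of_epi _ _ _ _ _ (cokernel.desc _ t hz) h1 h2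

include hker in
theorem isIso_counit_of_level (n : ℕ) (F : (Xn n).Modules) (hF : Coh.IsCoh F) :
    IsIso ((Scheme.Modules.pullbackPushforwardAdjunction (i n)).counit.app F) := by
  let adj := Scheme.Modules.pullbackPushforwardAdjunction (i n)
  let G := (Scheme.Modules.pushforward (i n)).obj F
  haveI : F.IsQuasicoherent := hF.1
  have hG : G.IsQuasicoherent := H10Coh.isQuasicoherent_pushforward_of_isAffineHom (i n) F
  have hbij : ∀ V : X.Opens, IsAffineOpen V → Function.Bijective ((adj.counit.app F).app ((i n) ⁻¹ᵁ V)) := by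
    intro V hV
    have htri : ∀ s : Γ(G, V), (adj.counit.app F).app ((i n) ⁻¹ᵁ V) (OmegaSh.pullSect (i n) G V s) = s := fun s =>
      congr($(congrArg (fun k => Scheme.Modules.Hom.app k V) (adj.right_triangle_components F)) s)
    have hq := H17.PullSect.isQuotOn_of_isAffineOpen (i n) G hG hV
    refine ⟨fun z z' h => ?_, fun s => ⟨_, htri s⟩⟩
    obtain ⟨a, rfl⟩ := hq.1 z
    obtain ⟨b, rfl⟩ := hq.1 z'
    rw [htri, htri] at h
    rw [h]
  have hpush : IsIso ((Scheme.Modules.pushforward (i n)).map (adj.counit.app F)) := by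
    haveI : Mono ((Scheme.Modules.pushforward (i n)).map (adj.counit.app F)) := by
      refine H11Tilde.mono_of_injective _ fun W s hs x hx => ?_
      obtain ⟨V, hV, hxV, hle⟩ := exists_isAffineOpen_mem_and_subset (U := W) hx
      refine ⟨V, hle, hxV, (hbij V hV).1 (Eq.trans ?_ (map_zero _).symm)⟩
      exact (H11Tilde.app_map_apply ((Scheme.Modules.pushforward (i n)).map (adj.counit.app F)) hle s).trans
        ((congrArg _ hs).trans (map_zero _))
    haveI : Epi ((Scheme.Modules.pushforward (i n)).map (adj.counit.app F)) := by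
      refine H11Tilde.epi_of_locally_surjective _ fun W s x hx => ?_
      obtain ⟨V, hV, hxV, hle⟩ := exists_isAffineOpen_mem_and_subset (U := W) hx
      obtain ⟨z, hz⟩ := (hbij V hV).2 (G.presheaf.map (homOfLE hle).op s)
      exact ⟨V, hle, hxV, z, hz⟩
    exact isIso_of_mono_of_epi _
  rw [Scheme.Modules.Hom.isIso_iff_isIso_app]
  intro O
  obtain ⟨O', hO', hO''⟩ := (i n).isEmbedding.isInducing.isOpen_iff.1 O.2
  have hO : O = (i n) ⁻¹ᵁ ⟨O', hO'⟩ := Opens.ext hO''.symm
  rw [hO]
  exact (Scheme.Modules.Hom.isIso_iff_isIso_app.mp hpush) ⟨O', hO'⟩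

include hker in
/-- A system of coherent modules whose direct images form the completion of `N` is the system of pullbacks of `N`. -/
theorem exists_isIso_of_completion_iso (F : ∀ n, (Xn n).Modules) (hF : ∀ n, Coh.IsCoh (F n))
    (e : ∀ n, (Scheme.Modules.pullback (ι n)).obj (F (n + 1)) ≅ F n) {N : X.Modules}
    (ψ : Formal.completion J N ≅ pushSys ι i hι F e) :
    ∃ α : ∀ n, (Scheme.Modules.pullback (i n)).obj N ≅ F n,
      ∀ n, (Scheme.Modules.pullback (ι n)).map (α (n + 1)).hom ≫ (e n).hom =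
        ((Scheme.Modules.pullbackComp (ι n) (i (n + 1))).app N ≪≫
          (Scheme.Modules.pullbackCongr (hι n)).app N).hom ≫ (α n).hom := by
  let φ : ∀ n, N ⟶ (Scheme.Modules.pushforward (i n)).obj (F n) := fun n =>
    Formal.modPowπ J (n + 1) N ≫ ψ.hom.app (op n)
  let adj := fun n => Scheme.Modules.pullbackPushforwardAdjunction (i n)
  have hφ : ∀ n, φ (n + 1) ≫ pushTrans (ι n) (i (n + 1)) (i n) (hι n) (e n) = φ n := fun n => by
    rw [← pushSys_map_succ ι i hι F e n]
    show (Formal.modPowπ J (n + 1 + 1) N ≫ ψ.hom.app (op (n + 1))) ≫ _ = _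
    refine (Category.assoc _ _ _).trans
      ((congrArg (Formal.modPowπ J (n + 1 + 1) N ≫ ·) (ψ.hom.naturality (homOfLE (Nat.le_succ n)).op).symm).trans ?_)
    rw [show (Formal.completion J N).map (homOfLE (Nat.le_succ n)).op =
      Formal.modPowTrans J (n + 1) N from Functor.ofOpSequence_map_homOfLE_succ _ n]
    exact (Category.assoc _ _ _).symm.trans (congrArg (· ≫ ψ.hom.app (op n)) (Formal.modPowπ_trans J (n + 1) N))
  have hiso : ∀ n, IsIso (((adj n).homEquiv N (F n)).symm (φ n)) := by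
    intro n
    rw [Adjunction.homEquiv_counit]
    haveI := isIso_counit_of_level J i hker n (F n) (hF n)
    have hz : Formal.smulFamily (J ^ (n + 1)) N ≫ (adj n).unit.app N = 0 :=
      H24Formal.smulFamily_comp_eq_zero _ fun a ha => smulMod_pushforward_eq_zero J i hker ha _
    obtain ⟨u, hu⟩ := CokernelCofork.IsColimit.desc' (cokernelIsCokernel _) ((adj n).unit.app N) hz
    have hu' : Formal.modPowπ J (n + 1) N ≫ u = (adj n).unit.app N := hu
    haveI : Epi ((Scheme.Modules.pullback (i n)).map (Formal.modPowπ J (n + 1) N)) :=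
      (Scheme.Modules.pullback (i n)).map_epi _
    have hspl : (Scheme.Modules.pullback (i n)).map (Formal.modPowπ J (n + 1) N) ≫ ((adj n).homEquiv _ _).symm u = 𝟙 _ := by
      rw [← Adjunction.homEquiv_naturality_left_symm, hu', ← Adjunction.homEquiv_id, Equiv.symm_apply_apply]
    haveI : SplitMono ((Scheme.Modules.pullback (i n)).map (Formal.modPowπ J (n + 1) N)) := ⟨_, hspl⟩
    haveI : IsIso ((Scheme.Modules.pullback (i n)).map (Formal.modPowπ J (n + 1) N)) :=
      ⟨_, hspl, by rw [← cancel_epi ((Scheme.Modules.pullback (i n)).map (Formal.modPowπ J (n + 1) N)),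
        ← Category.assoc, hspl, Category.id_comp, Category.comp_id]⟩
    show IsIso ((Scheme.Modules.pullback (i n)).map (Formal.modPowπ J (n + 1) N ≫ ψ.hom.app (op n)) ≫ _)
    haveI hψn : IsIso (ψ.hom.app (op n)) := inferInstance
    haveI h1 : IsIso ((Scheme.Modules.pullback (i n)).map (ψ.hom.app (op n))) := Functor.map_isIso _ _
    rw [Functor.map_comp]
    exact @IsIso.comp_isIso _ _ _ _ _ _ _ (@IsIso.comp_isIso _ _ _ _ _ _ _ ‹_› h1) ‹_›
  refine ⟨fun n => @asIso _ _ _ _ _ (hiso n), fun n => ?_⟩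
  have h := pushTrans_compat (ι n) (i (n + 1)) (i n) (hι n) (e n) (φ (n + 1))
  rw [hφ n] at h
  exact h

end Levels

end Groth.Agent.H24FSch
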