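import Groth.Agent.H24FSch.Descend
import Mathlib.RingTheory.Localization.Finiteness

/-! Kernels of thickenings, completions, finite type ideals. -/

set_option autoImplicit false
set_option linter.style.haveILetI false

universe u

open CategoryTheory Limits AlgebraicGeometry TopologicalSpace

namespace Groth.Agent.H24FSch

theorem comap_pow' {X Y : Scheme.{u}} (g : X ⟶ Y) (I : Y.IdealSheafData) :
    ∀ m : ℕ, (I ^ (m + 1)).comap g = I.comap g ^ (m + 1)
  | 0 => by simp
  | m + 1 => by rw [pow_succ, H29Blow.comap_mul, comap_pow' g I m, ← pow_succ]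

theorem ker_of_isPullback {X Y X₀ Y₀ : Scheme.{u}} {f : X ⟶ Y} {f₀ : X₀ ⟶ Y₀} {iX : X₀ ⟶ X} {iY : Y₀ ⟶ Y}
    [IsClosedImmersion iY] (hsq : IsPullback iX f₀ f iY) : iX.ker = iY.ker.comap f := by
  rw [← Scheme.IdealSheafData.ker_fst_of_isClosedImmersion iY f, ← hsq.isoPullback_hom_fst,
    Scheme.Hom.ker_comp_of_isIso]

theorem ker_inclusion {X : Scheme.{u}} {I J : X.IdealSheafData} (h : I ≤ J) :
    (Scheme.IdealSheafData.inclusion h).ker = J.comap I.subschemeι := by
  have := comap_ker_comp (Scheme.IdealSheafData.inclusion h) I.subschemeι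
  rwa [Scheme.IdealSheafData.inclusion_subschemeι, Scheme.IdealSheafData.ker_subschemeι, eq_comm] at this

/-- Finite type of an ideal sheaf is local. -/
theorem idealFT_of_cover {X : Scheme.{u}} (I : X.IdealSheafData) {ι : Type*} (S : ι → X.affineOpens)
    (hS : (⨆ i, (S i).1 : X.Opens) = ⊤) (h : ∀ i, (I.ideal (S i)).FG) : FSch.IdealFT I := by
  intro U
  induction U using of_affine_open_cover S hS with
  | basicOpen U f hU =>
    rw [← I.map_ideal (show X.affineBasicOpen f ≤ U from X.basicOpen_le f)]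
    exact Ideal.FG.map hU _
  | openCover U s hs hN =>
    refine Ideal.fg_of_localizationSpan (s : Set Γ(X, U.1)) hs fun g => ?_
    haveI := U.2.isLocalization_basicOpen g.1
    let e := IsLocalization.algEquiv (.powers g.1) Γ(X, X.basicOpen g.1) (Localization.Away g.1)
    have h1 := Ideal.FG.map (hN g) e.toRingEquiv.toRingHom
    have h2 : Ideal.map e.toRingEquiv.toRingHom (Ideal.map (X.presheaf.map
        (homOfLE (X.basicOpen_le g.1)).op).hom (I.ideal U)) =
        Ideal.map (algebraMap Γ(X, U.1) (Localization.Away g.1)) (I.ideal U) := by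
      rw [Ideal.map_map]; congr 1; exact RingHom.ext fun a => e.commutes a
    have h3 := congrArg (Ideal.map e.toRingEquiv.toRingHom)
      (I.map_ideal (show X.affineBasicOpen g.1 ≤ U from X.basicOpen_le g.1))
    exact h2 ▸ h3 ▸ h1
  | hU => exact h _

theorem idealFT_comap {X Y : Scheme.{u}} (f : X ⟶ Y) (I : Y.IdealSheafData) (hI : FSch.IdealFT I) :
    FSch.IdealFT (I.comap f) := by
  choose U V hx hle using H29Blow.exists_affine_le f
  refine idealFT_of_cover _ V (top_le_iff.mp fun x _ => Opens.mem_iSup.mpr ⟨x, hx x⟩) fun x => ?_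
  rw [H29Blow.ideal_comap I f (U x) (V x) (hle x)]
  exact Ideal.FG.map (hI _) _

theorem isFormal_completionAlong (X : Scheme.{u}) (I : X.IdealSheafData) :
    (FSch.completionAlong X I).IsFormal := by
  intro n
  refine ⟨inferInstanceAs (IsClosedImmersion (Scheme.IdealSheafData.inclusion _)), fun y => ?_⟩
  let ι : (FSch.completionAlong X I).X n ⟶ (FSch.completionAlong X I).X (n + 1) := (FSch.completionAlong X I).ι n
  have hy : (I ^ (n + 1 + 1)).subschemeι y ∈ Set.range (I ^ (n + 1)).subschemeι := by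
    rw [Scheme.IdealSheafData.range_subschemeι, Scheme.IdealSheafData.support_pow_succ,
      ← Scheme.IdealSheafData.support_pow_succ I (n + 1), ← Scheme.IdealSheafData.range_subschemeι]
    exact ⟨y, rfl⟩
  obtain ⟨x, hx⟩ := hy
  refine ⟨x, (I ^ (n + 1 + 1)).subschemeι.isClosedEmbedding.injective ?_⟩
  rw [← hx]
  exact congrArg (fun g => g x) (congrArg (fun g : (I ^ (n + 1)).subscheme ⟶ X => (g : _ → _))
    (Scheme.IdealSheafData.inclusion_subschemeι (FSch.pow_succ_le X I n)))

theorem toX_completionAlong (X : Scheme.{u}) (I : X.IdealSheafData) : ∀ n,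
    (FSch.completionAlong X I).toX n ≫ FSch.completionToX X I n = FSch.completionToX X I 0
  | 0 => Category.id_comp _
  | n + 1 => by
    show ((FSch.completionAlong X I).toX n ≫ Scheme.IdealSheafData.inclusion _) ≫ _ = _
    exact (Category.assoc _ _ _).trans ((congrArg (fun g => (FSch.completionAlong X I).toX n ≫ g)
      (Scheme.IdealSheafData.inclusion_subschemeι (FSch.pow_succ_le X I n))).trans (toX_completionAlong X I n))

theorem isLocNoethFormal_completionAlong (X : Scheme.{u}) [IsLocallyNoetherian X] (I : X.IdealSheafData) :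
    (FSch.completionAlong X I).IsLocNoethFormal := by
  refine ⟨isFormal_completionAlong X I, fun n => ?_, fun n => ?_⟩
  · haveI := (isClosedImmersion_surjective_toX (isFormal_completionAlong X I) (n + 1)).1
    haveI : IsClosedImmersion (FSch.completionToX X I (n + 1)) :=
      inferInstanceAs (IsClosedImmersion (I ^ (n + 1 + 1)).subschemeι)
    have h1 := comap_ker_comp ((FSch.completionAlong X I).toX (n + 1)) (FSch.completionToX X I (n + 1))
    rw [toX_completionAlong, show (FSch.completionToX X I 0).ker = I ^ (0 + 1) from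
      Scheme.IdealSheafData.ker_subschemeι _] at h1
    show (Scheme.IdealSheafData.inclusion _).ker = _
    rw [ker_inclusion, comap_pow', ← h1, zero_add, pow_one]
    rfl
  · show IsLocallyNoetherian (I ^ (n + 1)).subscheme
    exact LocallyOfFiniteType.isLocallyNoetherian (I ^ (n + 1)).subschemeι

/-- An adic system over a locally Noetherian formal one. -/
theorem isLocNoethFormal_of_isAdicHom {𝔛 𝔜 : FSch.Sys.{u}} (f : 𝔛 ⟶ 𝔜) (h𝔜 : 𝔜.IsLocNoethFormal)
    (hf : FSch.IsAdicHom f) [IsLocallyNoetherian (𝔛.X 0)] : 𝔛.IsLocNoethFormal := by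
  have hF : 𝔛.IsFormal := fun n => by
    haveI := (h𝔜.1 n).1
    haveI : Surjective (𝔜.ι n) := ⟨(h𝔜.1 n).2⟩
    have hc : IsClosedImmersion (𝔛.ι n) := MorphismProperty.of_isPullback (hf n).flip inferInstance
    have hs : Surjective (𝔛.ι n) := MorphismProperty.of_isPullback (hf n).flip inferInstance
    exact ⟨hc, hs.surj⟩
  have hker : ∀ n, (𝔛.toX n).ker = (𝔜.toX n).ker.comap ((f : FSch.Hom 𝔛 𝔜).app n) := fun n => by
    haveI := (isClosedImmersion_surjective_toX h𝔜.1 n).1
    exact ker_of_isPullback (isPullback_toX f hf n)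
  have hι : ∀ n, (𝔛.ι n).ker = (𝔜.ι n).ker.comap ((f : FSch.Hom 𝔛 𝔜).app (n + 1)) := fun n => by
    haveI := (h𝔜.1 n).1
    exact ker_of_isPullback (hf n)
  have hA : 𝔛.IsAdic := fun n => by rw [hι, h𝔜.2.1 n, comap_pow', hker]
  have hft : FSch.IdealFT (𝔛.ι 0).ker := by
    haveI := h𝔜.2.2 1
    rw [hι]
    exact idealFT_comap _ _ (idealFT_of_isLocallyNoetherian _)
  exact ⟨hF, hA, fun n => isLocallyNoetherian_level hF hA hft n⟩

end Groth.Agent.H24FSch
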