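import Groth.Agent.H24FSch.Levels
import Groth.Agent.H17.Separated
import Groth.Agent.H7Lim.Thickening
import Mathlib.AlgebraicGeometry.Morphisms.Finite
import Mathlib.AlgebraicGeometry.Morphisms.Proper

/-! Properties of morphisms detected on a thickening. -/

set_option autoImplicit false
set_option linter.style.haveILetI false

universe u

open CategoryTheory Limits AlgebraicGeometry TopologicalSpace

namespace Groth.Agent.H24FSch

variable {X Y X₀ Y₀ : Scheme.{u}} {f : X ⟶ Y} {f₀ : X₀ ⟶ Y₀} {iX : X₀ ⟶ X} {iY : Y₀ ⟶ Y}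

theorem locallyOfFiniteType_of_thickening [IsLocallyNoetherian Y] [IsClosedImmersion iY] [Surjective iY]
    (hsq : IsPullback iX f₀ f iY) [LocallyOfFiniteType f₀] : LocallyOfFiniteType f := by
  haveI : IsClosedImmersion iX := MorphismProperty.of_isPullback hsq.flip inferInstance
  haveI : Surjective iX := MorphismProperty.of_isPullback hsq.flip inferInstance
  have hcomp : LocallyOfFiniteType (iX ≫ f) := by rw [hsq.w]; infer_instance
  rw [HasRingHomProperty.iff_appLE (P := @LocallyOfFiniteType)]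
  intro V U e
  have h' := HasRingHomProperty.appLE @LocallyOfFiniteType (iX ≫ f) hcomp V
    ⟨iX ⁻¹ᵁ U.1, U.2.preimage _⟩ (fun y hy => e hy)
  have hker : iX.ker = iY.ker.comap f := by
    rw [← Scheme.IdealSheafData.ker_fst_of_isClosedImmersion iY f, ← hsq.isoPullback_hom_fst,
      Scheme.Hom.ker_comp_of_isIso]
  have hkfg : (iX.ker.ideal U).FG := by
    rw [hker, H29Blow.ideal_comap iY.ker f V U e]
    exact Ideal.FG.map (idealFT_of_isLocallyNoetherian iY.ker V) _
  have hknil := isNilpotent_ker_ideal iX U hkfg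
  have hcomp' : (iX ≫ f).appLE V.1 (iX ⁻¹ᵁ U.1) (fun y hy => e hy) = f.appLE V.1 U.1 e ≫ iX.app U.1 := by
    simp [Scheme.Hom.appLE, Scheme.Hom.naturality_assoc, ← Functor.map_comp]
  rw [hcomp'] at h'
  refine Groth.Agent.H8Props.ThickeningFiniteType.finiteType_of_surjective_of_fg_nilpotent _
    (iX.app U.1).hom (iX.app_surjective U.1 U.2) ?_ ?_ h'
  · rw [← Scheme.Hom.ker_apply iX U]; exact hkfg
  · rw [← Scheme.Hom.ker_apply iX U]; exact hknil

theorem isSeparated_of_thickening [IsClosedImmersion iX] [Surjective iX] [IsClosedImmersion iY]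
    (h : f₀ ≫ iY = iX ≫ f) [IsSeparated f₀] : IsSeparated f := by
  haveI : IsSeparated (iX ≫ f) := h ▸ inferInstance
  exact Groth.Agent.H17.isSeparated_of_surjective_universallyClosed iX f

theorem universallyClosed_of_thickening [IsClosedImmersion iX] [Surjective iX] [IsClosedImmersion iY]
    (h : f₀ ≫ iY = iX ≫ f) [UniversallyClosed f₀] : UniversallyClosed f := by
  haveI : UniversallyClosed (iX ≫ f) := h ▸ inferInstance
  exact UniversallyClosed.of_comp_surjective iX f

theorem isAffineHom_of_thickening [IsClosedImmersion iX] [Surjective iX] [IsClosedImmersion iY]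
    (h : f₀ ≫ iY = iX ≫ f) [IsAffineHom f₀] : IsAffineHom f := by
  refine ⟨fun U hU => ?_⟩
  haveI : IsAffineHom (iX ≫ f) := h ▸ inferInstance
  haveI : IsAffine (iX ⁻¹ᵁ (f ⁻¹ᵁ U) : X₀.Opens).toScheme := hU.preimage (iX ≫ f)
  haveI : IsClosedImmersion (iX ∣_ (f ⁻¹ᵁ U)) := IsZariskiLocalAtTarget.restrict (P := @IsClosedImmersion) (f := iX) ‹_› _
  haveI : Surjective (iX ∣_ (f ⁻¹ᵁ U)) := IsZariskiLocalAtTarget.restrict (P := @Surjective) (f := iX) ‹_› _
  exact Groth.Agent.H7Lim.isAffine_of_surjective_closedImmersion (iX ∣_ (f ⁻¹ᵁ U)) (Surjective.surj)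

theorem isProper_of_thickening [IsLocallyNoetherian Y] [IsClosedImmersion iY] [Surjective iY]
    (hsq : IsPullback iX f₀ f iY) [IsProper f₀] : IsProper f := by
  haveI : IsClosedImmersion iX := MorphismProperty.of_isPullback hsq.flip inferInstance
  haveI : Surjective iX := MorphismProperty.of_isPullback hsq.flip inferInstance
  haveI := isSeparated_of_thickening hsq.w.symm
  haveI := universallyClosed_of_thickening hsq.w.symm
  haveI := locallyOfFiniteType_of_thickening hsq
  exact { }

theorem isFinite_of_thickening [IsLocallyNoetherian Y] [IsClosedImmersion iY] [Surjective iY]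
    (hsq : IsPullback iX f₀ f iY) [IsFinite f₀] : IsFinite f := by
  haveI : IsClosedImmersion iX := MorphismProperty.of_isPullback hsq.flip inferInstance
  haveI : Surjective iX := MorphismProperty.of_isPullback hsq.flip inferInstance
  haveI := isProper_of_thickening hsq
  haveI := isAffineHom_of_thickening hsq.w.symm
  exact IsFinite.iff_isProper_and_isAffineHom.mpr ⟨inferInstance, inferInstance⟩

theorem isPullback_toX {𝔛 𝔜 : FSch.Sys.{u}} (f : 𝔛 ⟶ 𝔜) (hf : FSch.IsAdicHom f) :
    ∀ n, IsPullback (𝔛.toX n) ((f : FSch.Hom 𝔛 𝔜).app 0) ((f : FSch.Hom 𝔛 𝔜).app n) (𝔜.toX n) := by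
  intro n
  induction n with
  | zero =>
    haveI : IsIso (𝔛.toX 0) := inferInstanceAs (IsIso (𝟙 (𝔛.X 0)))
    haveI : IsIso (𝔜.toX 0) := inferInstanceAs (IsIso (𝟙 (𝔜.X 0)))
    exact IsPullback.of_horiz_isIso ⟨by change 𝟙 _ ≫ _ = _ ≫ 𝟙 _; rw [Category.id_comp, Category.comp_id]⟩
  | succ n ih => exact ih.paste_horiz (hf n)

end Groth.Agent.H24FSch
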