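import Groth.Agent.H24FSch.Kernels
import Groth.Prelude.Def_FSch5
import Mathlib.AlgebraicGeometry.Morphisms.ClosedImmersion

/-! Closed immersions of formal systems, subsystems, completions of morphisms. -/

set_option autoImplicit false
set_option linter.style.haveILetI false

universe u

open CategoryTheory Limits AlgebraicGeometry TopologicalSpace

namespace Groth.Agent.H24FSch

theorem isClosedImmersion_of_thickening {X Y X₀ Y₀ : Scheme.{u}} {f : X ⟶ Y} {f₀ : X₀ ⟶ Y₀} {iX : X₀ ⟶ X} {iY : Y₀ ⟶ Y}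
    [IsClosedImmersion iY] [Surjective iY] (hI : FSch.IdealFT iY.ker)
    (hsq : IsPullback iX f₀ f iY) [IsClosedImmersion f₀] : IsClosedImmersion f := by
  haveI : IsClosedImmersion iX := MorphismProperty.of_isPullback hsq.flip inferInstance
  haveI : Surjective iX := MorphismProperty.of_isPullback hsq.flip inferInstance
  haveI := isAffineHom_of_thickening hsq.w.symm
  refine isClosedImmersion_iff_isAffineHom.mpr ⟨inferInstance, fun U hU => ?_⟩
  haveI : IsClosedImmersion (iX ≫ f) := by rw [hsq.w]; infer_instance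
  have hcomp : Function.Surjective ((iX.app (f ⁻¹ᵁ U)).hom.comp (f.app U).hom) := fun y => by
    obtain ⟨a, ha⟩ := (iX ≫ f).app_surjective U hU y
    exact ⟨a, ha⟩
  obtain ⟨m, hm⟩ := isNilpotent_ker_ideal iY ⟨U, hU⟩ (hI _)
  set J := iY.ker.ideal ⟨U, hU⟩ with hJdef
  set φ := (f.app U).hom with hφdef
  have hk : RingHom.ker (iX.app (f ⁻¹ᵁ U)).hom = J.map φ := by
    have h1 := Scheme.Hom.ker_apply iX ⟨f ⁻¹ᵁ U, hU.preimage f⟩
    have h2 := H29Blow.ideal_comap iY.ker f ⟨U, hU⟩ ⟨f ⁻¹ᵁ U, hU.preimage f⟩ le_rfl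
    rw [← ker_of_isPullback hsq, Scheme.Hom.appLE_eq_app] at h2
    exact h1.symm.trans h2
  -- `B = φ A + J B` and `J` nilpotent
  have step : ∀ b, ∀ n : ℕ, ∃ a, b - φ a ∈ (J ^ n).map φ := by
    have h0 : ∀ b, ∃ a, b - φ a ∈ J.map φ := fun b => by
      obtain ⟨a, ha⟩ := hcomp ((iX.app (f ⁻¹ᵁ U)).hom b)
      refine ⟨a, ?_⟩
      rw [← hk, RingHom.mem_ker, map_sub, sub_eq_zero]
      exact ha.symm
    intro b n
    induction n with
    | zero => exact ⟨0, by simp [Ideal.map_top, Ideal.one_eq_top]⟩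
    | succ n ih =>
      obtain ⟨a, ha⟩ := ih
      have key : ∀ x ∈ (J ^ n).map φ, ∃ a, x - φ a ∈ (J ^ (n + 1)).map φ := by
        intro x hx
        refine Submodule.span_induction ?_ ⟨0, by simp⟩ ?_ ?_ hx
        · rintro _ ⟨j, hj, rfl⟩
          exact ⟨j, by simp⟩
        · rintro x y _ _ ⟨a, ha⟩ ⟨c, hc⟩
          exact ⟨a + c, by rw [map_add, add_sub_add_comm]; exact add_mem ha hc⟩
        · rintro r x hx ⟨a, ha⟩
          obtain ⟨c, hc⟩ := h0 r
          refine ⟨c * a, ?_⟩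
          have : r • x - φ (c * a) = (r - φ c) * x + φ c * (x - φ a) := by
            rw [map_mul, smul_eq_mul]; ring
          rw [this]
          refine add_mem ?_ (Ideal.mul_mem_left _ _ ha)
          rw [pow_succ', Ideal.map_mul]
          exact Ideal.mul_mem_mul hc hx
      obtain ⟨c, hc⟩ := key _ ha
      exact ⟨a + c, by rwa [map_add, ← sub_sub]⟩
  intro b
  obtain ⟨a, ha⟩ := step b m
  rw [hm, Ideal.zero_eq_bot, Ideal.map_bot, Ideal.mem_bot, sub_eq_zero] at ha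
  exact ⟨a, ha.symm⟩

theorem exists_lift_pow {Y T : Scheme.{u}} (J : Y.IdealSheafData) (hJ : FSch.IdealFT J) [CompactSpace T]
    (f : T ⟶ Y) (h : ∀ t : T, f t ∈ (J.support : Set Y)) :
    ∃ (n : ℕ) (g : T ⟶ (J ^ (n + 1)).subscheme), g ≫ (J ^ (n + 1)).subschemeι = f := by
  obtain ⟨n, hn, hle⟩ := exists_pow_le (I := J.comap f) (J := ⊥) (idealFT_comap f J hJ) (by
    rw [Scheme.IdealSheafData.support_comap]
    exact fun t _ => h t)
  obtain ⟨n, rfl⟩ : ∃ k, n = k + 1 := ⟨n - 1, by omega⟩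
  have hH : ((J ^ (n + 1)).subschemeι).ker ≤ f.ker := by
    rw [Scheme.IdealSheafData.ker_subschemeι, ← Scheme.IdealSheafData.map_bot (f := f),
      Scheme.IdealSheafData.le_map_iff_comap_le, comap_pow']
    exact hle
  exact ⟨n, IsClosedImmersion.lift _ f hH, IsClosedImmersion.lift_fac _ f hH⟩

theorem isAdicHom_subSysι (𝔛 : FSch.Sys.{u}) (𝒜 : ∀ n, (𝔛.X n).IdealSheafData)
    (h : ∀ n, (𝒜 (n + 1)).comap (𝔛.ι n) = 𝒜 n) :
    FSch.IsAdicHom (FSch.subSysι 𝔛 𝒜 (fun n ↦ (h n).le)) := fun n => by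
  refine (isPullback_of_isClosedImmersion (𝒜 n).subschemeι (𝒜 (n + 1)).subschemeι _ (𝔛.ι n) ?_ ?_).flip
  · exact (FSch.subSysι 𝔛 𝒜 (fun n ↦ (h n).le)).comm n
  · rw [Scheme.IdealSheafData.ker_subschemeι, Scheme.IdealSheafData.ker_subschemeι, h]

theorem isPullback_completionMap {X Y : Scheme.{u}} (f : X ⟶ Y) (𝓚 : Y.IdealSheafData)
    (h : FSch.PowCompat f (𝓚.comap f) 𝓚) (n : ℕ) :
    IsPullback (FSch.completionToX X (𝓚.comap f) n)
        ((FSch.completionMap f (𝓚.comap f) 𝓚 h : FSch.Hom _ _).app n) f (FSch.completionToX Y 𝓚 n) := by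
  refine isPullback_of_isClosedImmersion (((𝓚.comap f) ^ (n + 1)).subschemeι) ((𝓚 ^ (n + 1)).subschemeι) _ f ?_ ?_
  · exact (Scheme.IdealSheafData.subschemeMap_subschemeι _ _ f (Scheme.IdealSheafData.le_map_iff_comap_le.mpr (h n))).symm
  · rw [Scheme.IdealSheafData.ker_subschemeι, Scheme.IdealSheafData.ker_subschemeι, comap_pow']

theorem isAdicHom_completionMap {X Y : Scheme.{u}} (f : X ⟶ Y) (𝓚 : Y.IdealSheafData)
    (h : FSch.PowCompat f (𝓚.comap f) 𝓚) :
    FSch.IsAdicHom (FSch.completionMap f (𝓚.comap f) 𝓚 h) := fun n => by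
  refine IsPullback.of_right ?_ ((FSch.completionMap f (𝓚.comap f) 𝓚 h : FSch.Hom _ _).comm n).symm
    (isPullback_completionMap f 𝓚 h (n + 1))
  have := isPullback_completionMap f 𝓚 h n
  convert this using 1
  · exact Scheme.IdealSheafData.inclusion_subschemeι (FSch.pow_succ_le X (𝓚.comap f) n)
  · exact Scheme.IdealSheafData.inclusion_subschemeι (FSch.pow_succ_le Y 𝓚 n)

theorem isPullback_resLE_of_eq {X Y : Scheme.{u}} (g : X ⟶ Y) (V : Y.Opens) {V' : X.Opens} (e : V' ≤ g ⁻¹ᵁ V)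
    (he : g ⁻¹ᵁ V = V') : IsPullback V'.ι (g.resLE V V' e) g V.ι := by
  subst he
  rw [Scheme.Hom.resLE_eq_morphismRestrict]
  exact (isPullback_morphismRestrict _ _).flip

theorem isAdicHom_restrictOpenι (𝔛 : FSch.Sys.{u}) (h : 𝔛.IsFormal) (U : (𝔛.X 0).Opens) :
    FSch.IsAdicHom (𝔛.restrictOpenι h U) := fun n => by
  refine IsPullback.flip ?_
  show IsPullback (𝔛.lvU h n U).ι ((𝔛.ι n).resLE (𝔛.lvU h (n + 1) U) (𝔛.lvU h n U) (𝔛.lvU_le h n U))
    (𝔛.ι n) (𝔛.lvU h (n + 1) U).ι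
  exact isPullback_resLE_of_eq _ _ (𝔛.lvU_le h n U) (𝔛.lvU_succ h n U)

end Groth.Agent.H24FSch
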