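import Groth.Agent.H24FSch.Sub
import Groth.Agent.H8Props.ClosedImmersionNhd
import Groth.Agent.H29Blow.Stalk
import Mathlib.RingTheory.Filtration

/-! Closed immersions and isomorphisms detected on completions. -/

set_option autoImplicit false
set_option linter.style.haveILetI false

universe u

open CategoryTheory CategoryTheory.Limits AlgebraicGeometry TopologicalSpace

namespace Groth.Agent.H24FSch

theorem restrict_of_le {X Y : Scheme.{u}} (P : MorphismProperty Scheme.{u}) [IsZariskiLocalAtTarget P]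
    (f : X ⟶ Y) {W V : Y.Opens} (h : W ≤ V) (hP : P (f ∣_ V)) : P (f ∣_ W) := by
  have h1 := IsZariskiLocalAtTarget.restrict hP (V.ι ⁻¹ᵁ W)
  rw [MorphismProperty.arrow_mk_iso_iff P (morphismRestrictRestrict f V (V.ι ⁻¹ᵁ W))] at h1
  have e : V.ι ''ᵁ V.ι ⁻¹ᵁ W = W := by
    rw [Scheme.Hom.image_preimage_eq_opensRange_inf, Scheme.Opens.opensRange_ι]
    exact inf_eq_right.mpr h
  rwa [MorphismProperty.arrow_mk_iso_iff P (morphismRestrictEq f e)] at h1

theorem restrict_iSup {X Y : Scheme.{u}} (P : MorphismProperty Scheme.{u}) [IsZariskiLocalAtTarget P]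
    (f : X ⟶ Y) {ι : Type u} (V : ι → Y.Opens) (h : ∀ i, P (f ∣_ V i)) : P (f ∣_ ⨆ i, V i) := by
  have hW : ⨆ i, (⨆ i, V i).ι ⁻¹ᵁ V i = ⊤ := by
    refine eq_top_iff.mpr fun z _ => ?_
    obtain ⟨i, hi⟩ := Opens.mem_iSup.mp z.2
    exact Opens.mem_iSup.mpr ⟨i, hi⟩
  refine IsZariskiLocalAtTarget.of_iSup_eq_top _ hW fun i => ?_
  rw [MorphismProperty.arrow_mk_iso_iff P (morphismRestrictRestrict f _ _)]
  have e : (⨆ i, V i).ι ''ᵁ ((⨆ i, V i).ι ⁻¹ᵁ V i) = V i := by
    rw [Scheme.Hom.image_preimage_eq_opensRange_inf, Scheme.Opens.opensRange_ι]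
    exact inf_eq_right.mpr (le_iSup V i)
  rw [MorphismProperty.arrow_mk_iso_iff P (morphismRestrictEq f e)]
  exact h i

/-- Openness around a set along a closed map. -/
theorem exists_open_subset {Y Z : Scheme.{u}} (h : Y ⟶ Z) [UniversallyClosed h] (s : Set Z) (W : Y.Opens)
    (hW : ∀ y, h y ∈ s → y ∈ W) : ∃ U : Z.Opens, s ⊆ U ∧ h ⁻¹ᵁ U ≤ W := by
  refine ⟨⟨(h '' (W : Set Y)ᶜ)ᶜ, (h.isClosedMap _ W.2.isClosed_compl).isOpen_compl⟩, ?_, ?_⟩
  · rintro z hz ⟨y, hy, rfl⟩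
    exact hy (hW y hz)
  · intro y hy
    by_contra hyW
    exact hy ⟨y, hyW, rfl⟩

/-- A property stable under base change passes from a restriction to a base change landing in the open. -/
theorem of_restrict {X Y X₀ Y₀ : Scheme.{u}} (P : MorphismProperty Scheme.{u}) [P.IsStableUnderBaseChange]
    {f : X ⟶ Y} {f₀ : X₀ ⟶ Y₀} {iX : X₀ ⟶ X} {iY : Y₀ ⟶ Y} (hsq : IsPullback iX f₀ f iY) (V : Y.Opens)
    (hV : ∀ y, iY y ∈ V) (hP : P (f ∣_ V)) : P f₀ := by
  obtain ⟨t, ht⟩ : ∃ t : Y₀ ⟶ V, t ≫ V.ι = iY :=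
    ⟨IsOpenImmersion.lift V.ι iY (by rw [Scheme.Opens.range_ι]; rintro _ ⟨y, rfl⟩; exact hV y),
      IsOpenImmersion.lift_fac _ _ _⟩
  obtain ⟨g, hg⟩ := H8Props.ClosedImmersionNhd.exists_isPullback_restrict f V t iY ht
  have h1 : P (pullback.snd f iY) := MorphismProperty.of_isPullback hg hP
  rwa [← hsq.isoPullback_hom_snd, P.cancel_left_of_respectsIso]

theorem exists_closedImm_nhd {X Y X₀ Y₀ : Scheme.{u}} {f : X ⟶ Y} [IsProper f] {f₀ : X₀ ⟶ Y₀} {iX : X₀ ⟶ X}
    {iY : Y₀ ⟶ Y} [IsClosedImmersion iY] (hsq : IsPullback iX f₀ f iY) [IsClosedImmersion f₀] (y₀ : Y₀) :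
    ∃ U : Y.Opens, iY y₀ ∈ U ∧ IsClosedImmersion (f ∣_ U) := by
  rw [H8Props.ClosedImmersionNhd.closedImmersion_nhd_iff]
  refine ⟨?_, ⊤, trivial, inferInstance⟩
  haveI : IsIso (iY.residueFieldMap y₀) := by
    refine (ConcreteCategory.isIso_iff_bijective _).mpr ⟨RingHom.injective _, fun z => ?_⟩
    obtain ⟨z, rfl⟩ := IsLocalRing.residue_surjective z
    obtain ⟨w, rfl⟩ := iY.stalkMap_surjective y₀ z
    exact ⟨IsLocalRing.residue _ w, rfl⟩
  let t : Spec (Y.residueField (iY y₀)) ⟶ Y₀ := inv (Spec.map (iY.residueFieldMap y₀)) ≫ Y₀.fromSpecResidueField y₀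
  have ht : t ≫ iY = Y.fromSpecResidueField (iY y₀) := by
    rw [Category.assoc, ← Scheme.Hom.SpecMap_residueFieldMap_fromSpecResidueField, IsIso.inv_hom_id_assoc]
  have hfib : IsPullback (pullback.fst f₀ t ≫ iX) (pullback.snd f₀ t) f (Y.fromSpecResidueField (iY y₀)) :=
    ht ▸ (IsPullback.of_hasPullback f₀ t).paste_horiz hsq
  have hcl : IsClosedImmersion (pullback.snd f₀ t) := MorphismProperty.pullback_snd _ _ inferInstance
  rw [← hfib.isoPullback_hom_snd] at hcl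
  haveI : IsClosedImmersion (f.fiberToSpecResidueField (iY y₀)) :=
    (MorphismProperty.cancel_left_of_respectsIso @IsClosedImmersion hfib.isoPullback.hom _).mp hcl
  rcases isEmpty_or_nonempty ↥(f.fiber (iY y₀)) with he | ⟨⟨p⟩⟩
  · exact Or.inl he
  · haveI : Surjective (f.fiberToSpecResidueField (iY y₀)) :=
      ⟨fun q => ⟨p, Subsingleton.elim (α := PrimeSpectrum _) _ _⟩⟩
    exact Or.inr (isIso_of_isClosedImmersion_of_surjective _)

/-- A closed immersion whose ideal lies in every power of `J` is an isomorphism near the support of `J`. -/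
theorem exists_iso_nhd {X Y : Scheme.{u}} (f : X ⟶ Y) [IsClosedImmersion f] [IsLocallyNoetherian Y]
    (J : Y.IdealSheafData) (hK : ∀ n : ℕ, f.ker ≤ J ^ (n + 1)) (y : Y) (hy : y ∈ (J.support : Set Y)) :
    ∃ U : Y.Opens, y ∈ U ∧ IsIso (f ∣_ U) := by
  obtain ⟨V, hV, hyV, -⟩ := exists_isAffineOpen_mem_and_subset (Opens.mem_top y)
  haveI := IsLocallyNoetherian.component_noetherian ⟨V, hV⟩
  letI := TopCat.Presheaf.algebra_section_stalk Y.presheaf (⟨y, hyV⟩ : V)
  haveI := hV.isLocalization_stalk ⟨y, hyV⟩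
  let K := f.ker.ideal ⟨V, hV⟩
  let S := Y.presheaf.stalk y
  have hJ : (J.ideal ⟨V, hV⟩).map (algebraMap Γ(Y, V) S) ≤ IsLocalRing.maximalIdeal S := by
    rw [← Scheme.IdealSheafData.range_subschemeι] at hy
    obtain ⟨d, rfl⟩ := hy
    rw [RingHom.algebraMap_toAlgebra]
    exact (H29Blow.ker_stalkMap_subschemeι J d ⟨V, hV⟩ hyV).ge.trans (IsLocalRing.le_maximalIdeal (RingHom.ker_ne_top _))
  have hK0 : K.map (algebraMap Γ(Y, V) S) = ⊥ := by
    rw [eq_bot_iff, ← Ideal.iInf_pow_eq_bot_of_isLocalRing (IsLocalRing.maximalIdeal S)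
      (IsLocalRing.maximalIdeal.isMaximal _).ne_top]
    refine le_iInf fun n => ?_
    refine (Ideal.map_mono (hK n ⟨V, hV⟩)).trans ?_
    rw [Scheme.IdealSheafData.ideal_pow, Pi.pow_apply, Ideal.map_pow]
    exact (Ideal.pow_right_mono hJ _).trans (Ideal.pow_le_pow_right (Nat.le_succ n))
  obtain ⟨s, hs⟩ := IsNoetherian.noetherian K
  have hex : ∀ a ∈ s, ∃ c ∈ (hV.primeIdealOf ⟨y, hyV⟩).asIdeal.primeCompl, c * a = 0 := fun a ha => by
    have : algebraMap Γ(Y, V) S a = 0 := by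
      rw [← Ideal.mem_bot, ← hK0]
      exact Ideal.mem_map_of_mem _ (hs ▸ Submodule.subset_span ha)
    obtain ⟨⟨c, hc⟩, h⟩ := (IsLocalization.map_eq_zero_iff (hV.primeIdealOf ⟨y, hyV⟩).asIdeal.primeCompl S a).mp this
    exact ⟨c, hc, h⟩
  choose c hc hca using hex
  let e := ∏ a ∈ s.attach, c a.1 a.2
  have he : e ∈ (hV.primeIdealOf ⟨y, hyV⟩).asIdeal.primeCompl := prod_mem fun a _ => hc a.1 a.2
  have hye : y ∈ Y.basicOpen e := by
    refine (Scheme.mem_basicOpen Y e y hyV).mpr ?_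
    exact IsLocalization.map_units S ⟨e, he⟩
  refine ⟨Y.basicOpen e, hye, ?_⟩
  haveI : IsAffine (Y.basicOpen e).toScheme := hV.basicOpen e
  rw [IsClosedImmersion.isIso_iff_ker_eq_bot]
  refine Scheme.IdealSheafData.ext_of_isAffine ?_
  rw [Scheme.IdealSheafData.ideal_bot, Pi.bot_apply, Scheme.ker_morphismRestrict_ideal]
  have h0 : f.ker.ideal (Y.affineBasicOpen (U := ⟨V, hV⟩) e) = ⊥ := by
    refine (f.ker.map_ideal (U := Y.affineBasicOpen (U := ⟨V, hV⟩) e) (V := ⟨V, hV⟩) (Y.basicOpen_le e)).symm.trans ?_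
    rw [Ideal.map_eq_bot_iff_le_ker]
    show K ≤ _
    rw [← hs, Submodule.span_le]
    intro a ha
    have hu : IsUnit ((Y.presheaf.map (homOfLE (Y.basicOpen_le e)).op).hom (c a ha)) :=
      isUnit_of_dvd_unit (map_dvd _ (Finset.dvd_prod_of_mem (fun a => c a.1 a.2) (Finset.mem_attach s ⟨a, ha⟩)))
        (AlgebraicGeometry.RingedSpace.isUnit_res_basicOpen _ e)
    rw [SetLike.mem_coe, RingHom.mem_ker]
    refine hu.mul_right_eq_zero.mp ?_
    exact (map_mul _ _ _).symm.trans ((congrArg _ (hca a ha)).trans (map_zero _))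
  have hW : (⟨(Y.basicOpen e).ι ''ᵁ ⊤, (isAffineOpen_top (Y.basicOpen e).toScheme).image_of_isOpenImmersion _⟩ :
      Y.affineOpens) = Y.affineBasicOpen (U := ⟨V, hV⟩) e := by
    exact Subtype.ext (Scheme.Hom.image_top_eq_opensRange _ |>.trans (Scheme.Opens.opensRange_ι _))
  revert h0
  rw [← hW]
  exact fun h => h

end Groth.Agent.H24FSch

namespace Groth.Agent.H24FSch

variable {X Y Z : Scheme.{u}}

theorem isPullback_completionMap' (f : X ⟶ Y) {I : X.IdealSheafData} (K : Y.IdealSheafData) (hI : I = K.comap f)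
    (h : FSch.PowCompat f I K) (n : ℕ) :
    IsPullback (FSch.completionToX X I n) ((FSch.completionMap f I K h : FSch.Hom _ _).app n) f
      (FSch.completionToX Y K n) := by
  subst hI
  exact isPullback_completionMap f K h n

theorem comap_comp_of_eq (g : X ⟶ Z) (h : Y ⟶ Z) (f : X ⟶ Y) (w : f ≫ h = g) (J : Z.IdealSheafData) :
    J.comap g = (J.comap h).comap f := by
  rw [← w, Scheme.IdealSheafData.comap_comp]

theorem completionToX_mem (h : Y ⟶ Z) (J : Z.IdealSheafData) (n : ℕ)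
    (y : (FSch.completionAlong Y (J.comap h)).X n) : h (FSch.completionToX Y (J.comap h) n y) ∈ (J.support : Set Z) := by
  have : FSch.completionToX Y (J.comap h) n y ∈ (((J.comap h) ^ (n + 1)).support : Set Y) := by
    rw [← Scheme.IdealSheafData.range_subschemeι]; exact ⟨y, rfl⟩
  rw [Scheme.IdealSheafData.support_pow_succ, Scheme.IdealSheafData.support_comap] at this
  exact this

theorem app_of_restrict (P : MorphismProperty Scheme.{u}) [P.IsStableUnderBaseChange] [IsZariskiLocalAtTarget P]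
    (g : X ⟶ Z) (h : Y ⟶ Z) (f : X ⟶ Y) (w : f ≫ h = g) (J : Z.IdealSheafData)
    (hc : FSch.PowCompat f (J.comap g) (J.comap h)) (U : Z.Opens) (hU : (J.support : Set Z) ⊆ U)
    (hP : P (f ∣_ h ⁻¹ᵁ U)) (n : ℕ) :
    P ((FSch.completionMap f (J.comap g) (J.comap h) hc : FSch.Hom _ _).app n) :=
  of_restrict P (isPullback_completionMap' f _ (comap_comp_of_eq g h f w J) hc n) _
    (fun y => hU (completionToX_mem h J n y)) hP

theorem exists_open_isClosedImmersion [IsLocallyNoetherian Z] (g : X ⟶ Z) (h : Y ⟶ Z) [IsProper g] [IsProper h]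
    (f : X ⟶ Y) (w : f ≫ h = g) (J : Z.IdealSheafData) (hc : FSch.PowCompat f (J.comap g) (J.comap h))
    (hl : IsClosedImmersion ((FSch.completionMap f (J.comap g) (J.comap h) hc : FSch.Hom _ _).app 0)) :
    ∃ U : Z.Opens, (J.support : Set Z) ⊆ U ∧ IsClosedImmersion (f ∣_ h ⁻¹ᵁ U) := by
  haveI : IsProper (f ≫ h) := w ▸ inferInstance
  haveI := IsProper.of_comp f h
  haveI : IsClosedImmersion (FSch.completionToX Y (J.comap h) 0) :=
    inferInstanceAs (IsClosedImmersion ((J.comap h) ^ (0 + 1)).subschemeι)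
  have key : ∀ y : {y : Y // h y ∈ (J.support : Set Z)}, ∃ U : Y.Opens, y.1 ∈ U ∧ IsClosedImmersion (f ∣_ U) := by
    rintro ⟨y, hy⟩
    have : y ∈ (((J.comap h) ^ (0 + 1)).support : Set Y) := by
      rw [Scheme.IdealSheafData.support_pow_succ, Scheme.IdealSheafData.support_comap]; exact hy
    rw [← Scheme.IdealSheafData.range_subschemeι] at this
    obtain ⟨y₀, rfl⟩ := this
    exact exists_closedImm_nhd (isPullback_completionMap' f _ (comap_comp_of_eq g h f w J) hc 0) y₀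
  choose V hyV hV using key
  obtain ⟨U, hU, hUle⟩ := exists_open_subset h (J.support : Set Z) (⨆ i, V i)
    (fun y hy => Opens.mem_iSup.mpr ⟨⟨y, hy⟩, hyV _⟩)
  exact ⟨U, hU, restrict_of_le @IsClosedImmersion f hUle (restrict_iSup @IsClosedImmersion f V hV)⟩

theorem exists_open_isIso [IsLocallyNoetherian Z] (g : X ⟶ Z) (h : Y ⟶ Z) [IsProper g] [IsProper h]
    (f : X ⟶ Y) (w : f ≫ h = g) (J : Z.IdealSheafData) (hc : FSch.PowCompat f (J.comap g) (J.comap h))
    (hl : ∀ n, IsIso ((FSch.completionMap f (J.comap g) (J.comap h) hc : FSch.Hom _ _).app n)) :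
    ∃ U : Z.Opens, (J.support : Set Z) ⊆ U ∧ IsIso (f ∣_ h ⁻¹ᵁ U) := by
  haveI := hl 0
  obtain ⟨U, hU, hcl⟩ := exists_open_isClosedImmersion g h f w J hc inferInstance
  haveI : IsLocallyNoetherian Y := LocallyOfFiniteType.isLocallyNoetherian h
  have hK : ∀ n, (f ∣_ h ⁻¹ᵁ U).ker ≤ ((J.comap h).comap (h ⁻¹ᵁ U).ι) ^ (n + 1) := by
    intro n
    haveI := hl n
    have hsq := isPullback_completionMap' f _ (comap_comp_of_eq g h f w J) hc n
    haveI : IsClosedImmersion (FSch.completionToX Y (J.comap h) n) :=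
      inferInstanceAs (IsClosedImmersion ((J.comap h) ^ (n + 1)).subschemeι)
    let iW := pullback.fst (h ⁻¹ᵁ U).ι (FSch.completionToX Y (J.comap h) n)
    let pW := pullback.snd (h ⁻¹ᵁ U).ι (FSch.completionToX Y (J.comap h) n)
    have hk : iW.ker = ((J.comap h).comap (h ⁻¹ᵁ U).ι) ^ (n + 1) := by
      rw [Scheme.IdealSheafData.ker_fst_of_isClosedImmersion, ← comap_pow']
      congr 1
      exact Scheme.IdealSheafData.ker_subschemeι _
    let s : pullback (h ⁻¹ᵁ U).ι (FSch.completionToX Y (J.comap h) n) ⟶ X :=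
      pW ≫ inv ((FSch.completionMap f (J.comap g) (J.comap h) hc : FSch.Hom _ _).app n) ≫
        FSch.completionToX X (J.comap g) n
    have hs : s ≫ f = iW ≫ (h ⁻¹ᵁ U).ι := by
      simp only [s, Category.assoc, hsq.w, IsIso.inv_hom_id_assoc]
      exact pullback.condition.symm
    have hr := (isPullback_morphismRestrict f (h ⁻¹ᵁ U)).flip
    rw [← hk, ← hr.lift_snd s iW hs]
    exact Scheme.Hom.le_ker_comp _ _
  have key : ∀ y : {y : (h ⁻¹ᵁ U).toScheme // h ((h ⁻¹ᵁ U).ι y) ∈ (J.support : Set Z)},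
      ∃ O : (h ⁻¹ᵁ U).toScheme.Opens, y.1 ∈ O ∧ IsIso ((f ∣_ h ⁻¹ᵁ U) ∣_ O) := by
    rintro ⟨y, hy⟩
    refine exists_iso_nhd _ _ hK y ?_
    rw [Scheme.IdealSheafData.support_comap, Scheme.IdealSheafData.support_comap]
    exact hy
  choose O hyO hO using key
  let W : {y : (h ⁻¹ᵁ U).toScheme // h ((h ⁻¹ᵁ U).ι y) ∈ (J.support : Set Z)} → Y.Opens :=
    fun i => (h ⁻¹ᵁ U).ι ''ᵁ O i
  obtain ⟨U', hU', hU'le⟩ := exists_open_subset h (J.support : Set Z) (⨆ i, W i)
    (fun y hy => Opens.mem_iSup.mpr ⟨⟨⟨y, hU hy⟩, hy⟩, ⟨_, hyO _, rfl⟩⟩)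
  refine ⟨U', hU', restrict_of_le (MorphismProperty.isomorphisms Scheme.{u}) f hU'le
    (restrict_iSup (MorphismProperty.isomorphisms Scheme.{u}) f W fun i => ?_)⟩
  exact (MorphismProperty.arrow_mk_iso_iff (MorphismProperty.isomorphisms Scheme.{u})
    (morphismRestrictRestrict f _ (O i))).mp (hO i)

end Groth.Agent.H24FSch
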