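import Groth.Agent.H24FSch.SpfCoh
import Groth.Agent.H24Formal.ProLimit

/-! Morphisms between completions of finite modules over a complete Noetherian ring. -/

set_option autoImplicit false
set_option linter.style.haveILetI false

universe u

open CategoryTheory CategoryTheory.Limits AlgebraicGeometry Opposite TopologicalSpace

namespace Groth.Agent.H24FSch

theorem pushTrans_natural {U V X : Scheme.{u}} (g : U ⟶ V) (h : V ⟶ X) (f : U ⟶ X) (hf : g ≫ h = f)
    {F₁ F₂ : V.Modules} {F₁' F₂' : U.Modules} (e₁ : (Scheme.Modules.pullback g).obj F₁ ≅ F₁')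
    (e₂ : (Scheme.Modules.pullback g).obj F₂ ≅ F₂') (a : F₁ ⟶ F₂) (a' : F₁' ⟶ F₂')
    (w : (Scheme.Modules.pullback g).map a ≫ e₂.hom = e₁.hom ≫ a') :
    (Scheme.Modules.pushforward h).map a ≫ pushTrans g h f hf e₂ =
      pushTrans g h f hf e₁ ≫ (Scheme.Modules.pushforward f).map a' := by
  let adj := Scheme.Modules.pullbackPushforwardAdjunction g
  have h1 : a ≫ adj.unit.app F₂ ≫ (Scheme.Modules.pushforward g).map e₂.hom =
      (adj.unit.app F₁ ≫ (Scheme.Modules.pushforward g).map e₁.hom) ≫ (Scheme.Modules.pushforward g).map a' := by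
    refine (Category.assoc _ _ _).symm.trans ((congrArg (· ≫ _) (adj.unit.naturality a)).trans ?_)
    rw [Category.assoc, Category.assoc, ← Functor.map_comp, ← w, Functor.map_comp]
    rfl
  have h2 := congrArg ((Scheme.Modules.pushforward h).map ·) h1
  simp only [Functor.map_comp] at h2
  have h3 := (Scheme.Modules.pushforwardComp g h).hom.naturality a'
  have h4 := (Scheme.Modules.pushforwardCongr hf).hom.naturality a'
  simp only [pushTrans, Functor.map_comp, Category.assoc]
  simp only [Category.assoc] at h2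
  rw [reassoc_of% h2]
  erw [reassoc_of% h3, h4]
  rfl

theorem unit_pushTrans {U V X : Scheme.{u}} (g : U ⟶ V) (h : V ⟶ X) (f : U ⟶ X) (hf : g ≫ h = f) (N : X.Modules)
    (e : (Scheme.Modules.pullback g).obj ((Scheme.Modules.pullback h).obj N) ≅ (Scheme.Modules.pullback f).obj N)
    (he : e.hom = ((Scheme.Modules.pullbackComp g h).app N ≪≫ (Scheme.Modules.pullbackCongr hf).app N).hom) :
    (Scheme.Modules.pullbackPushforwardAdjunction h).unit.app N ≫ pushTrans g h f hf e =
      (Scheme.Modules.pullbackPushforwardAdjunction f).unit.app N := by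
  have h0 := pushTrans_compat g h f hf e (N := N) ((Scheme.Modules.pullbackPushforwardAdjunction h).unit.app N)
  have hid : ((Scheme.Modules.pullbackPushforwardAdjunction h).homEquiv N _).symm
      ((Scheme.Modules.pullbackPushforwardAdjunction h).unit.app N) = 𝟙 _ := by
    rw [← Adjunction.homEquiv_id, Equiv.symm_apply_apply]
  erw [hid, CategoryTheory.Functor.map_id, Category.id_comp, ← he] at h0
  have h2 := (cancel_epi e.hom).mp (h0.symm.trans (Category.comp_id _).symm)
  have h3 := congrArg ((Scheme.Modules.pullbackPushforwardAdjunction f).homEquiv N _) h2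
  rw [Equiv.apply_symm_apply, Adjunction.homEquiv_id] at h3
  exact h3

theorem comp_comm_apply {X : Scheme.{u}} {M N N' P : X.Modules} {f : M ⟶ N} {g : N ⟶ P} {f' : M ⟶ N'} {g' : N' ⟶ P}
    (h : f ≫ g = f' ≫ g') (U : X.Opens) (x : Γ(M, U)) : g.app U (f.app U x) = g'.app U (f'.app U x) :=
  congr($(congrArg (fun k => Scheme.Modules.Hom.app k U) h) x)

theorem comp_eq_apply {X : Scheme.{u}} {M N P : X.Modules} {f : M ⟶ N} {g : N ⟶ P} {h : M ⟶ P}
    (e : f ≫ g = h) (U : X.Opens) (x : Γ(M, U)) : g.app U (f.app U x) = h.app U x :=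
  congr($(congrArg (fun k => Scheme.Modules.Hom.app k U) e) x)

theorem square_apply {X : Scheme.{u}} {T P P' Q Q' : X.Modules} {u' : T ⟶ P'} {u : T ⟶ P} {f : P' ⟶ Q'} {g : Q' ⟶ Q}
    {f' : P' ⟶ P} {g' : P ⟶ Q} (h1 : f ≫ g = f' ≫ g') (h2 : u' ≫ f' = u) (U : X.Opens) (x : Γ(T, U)) :
    g.app U (f.app U (u'.app U x)) = g'.app U (u.app U x) :=
  (comp_comm_apply h1 U (u'.app U x)).trans (congrArg (g'.app U) (comp_eq_apply h2 U x))

section Sections

variable (A : Type u) [CommRing A] [(Spec (CommRingCat.of A)).Over (Spec (CommRingCat.of A))]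
  (hover : (Spec (CommRingCat.of A)) ↘ (Spec (CommRingCat.of A)) = 𝟙 _)

/-- A module is the global sections of its tilde. -/
noncomputable def tildeSecEquiv (M : ModuleCat.{u} A) :
    M ≃ₗ[A] H24Formal.SecMod A (tilde (R := CommRingCat.of A) M) ⊤ :=
  (tilde.isoTop (R := CommRingCat.of A) M).toLinearEquiv ≪≫ₗ
    (H24Formal.secEquiv A hover (tilde (R := CommRingCat.of A) M)).symm

theorem tilde_hom_ext {M : ModuleCat.{u} A} {C : (Spec (CommRingCat.of A)).Modules}
    (f g : tilde (R := CommRingCat.of A) M ⟶ C)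
    (h : ∀ m : M, f.app ⊤ (tildeSecEquiv A hover M m) = g.app ⊤ (tildeSecEquiv A hover M m)) : f = g :=
  ((tilde.adjunction (R := CommRingCat.of A)).homEquiv M C).injective
    (ModuleCat.hom_ext (LinearMap.ext fun m => h m))

theorem tilde_map_sec {M N : ModuleCat.{u} A} (u : M ⟶ N) (m : M) :
    (tilde.map (R := CommRingCat.of A) u).app ⊤ (tildeSecEquiv A hover M m) = tildeSecEquiv A hover N (u m) :=
  congr($(tilde.toOpen_map_app (R := CommRingCat.of A) u ⊤) m)

/-- The standard transition isomorphism of pullbacks. -/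
noncomputable def stdTrans {U V X : Scheme.{u}} (g : U ⟶ V) (h : V ⟶ X) (f : U ⟶ X) (hf : g ≫ h = f) (N : X.Modules) :
    (Scheme.Modules.pullback g).obj ((Scheme.Modules.pullback h).obj N) ≅ (Scheme.Modules.pullback f).obj N :=
  (Scheme.Modules.pullbackComp g h).app N ≪≫ (Scheme.Modules.pullbackCongr hf).app N

include hover in
theorem existsUnique_hom_of_compatible [IsNoetherianRing A] (J : Ideal A) [IsAdicComplete J A]
    {Xn : ℕ → Scheme.{u}} (ι : ∀ n, Xn n ⟶ Xn (n + 1)) (i : ∀ n, Xn n ⟶ Spec (CommRingCat.of A))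
    [∀ n, IsClosedImmersion (i n)] (hι : ∀ n, ι n ≫ i (n + 1) = i n)
    (hker : ∀ (n : ℕ) (W : (Spec (CommRingCat.of A)).Opens), IsAffineOpen W →
      RingHom.ker ((i n).app W).hom = (J ^ (n + 1)).map (H24Formal.scalA A W))
    (M N : ModuleCat.{u} A) [Module.Finite A M] [Module.Finite A N]
    (a : ∀ n, (Scheme.Modules.pullback (i n)).obj (tilde (R := CommRingCat.of A) M) ⟶
      (Scheme.Modules.pullback (i n)).obj (tilde (R := CommRingCat.of A) N))
    (hcomm : ∀ n, (Scheme.Modules.pullback (ι n)).map (a (n + 1)) ≫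
        (stdTrans (ι n) (i (n + 1)) (i n) (hι n) (tilde (R := CommRingCat.of A) N)).hom =
      (stdTrans (ι n) (i (n + 1)) (i n) (hι n) (tilde (R := CommRingCat.of A) M)).hom ≫ a n) :
    ∃! u : M ⟶ N, ∀ n, (Scheme.Modules.pullback (i n)).map (tilde.map (R := CommRingCat.of A) u) = a n := by
  haveI hN : IsAdicComplete J N := H24Adic.isAdicComplete_of_finite J
  let adj := fun n => Scheme.Modules.pullbackPushforwardAdjunction (i n)
  let θ : ∀ (L : ModuleCat.{u} A) (n : ℕ), L →ₗ[A] H24Formal.SecMod A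
      ((Scheme.Modules.pushforward (i n)).obj ((Scheme.Modules.pullback (i n)).obj (tilde (R := CommRingCat.of A) L))) ⊤ :=
    fun L n => (H24Formal.secMap A ((adj n).unit.app (tilde (R := CommRingCat.of A) L)) ⊤) ∘ₗ
      (tildeSecEquiv A hover L).toLinearMap
  have hθ : ∀ n, Function.Surjective (θ N n) ∧ ∀ x, θ N n x = 0 ↔ x ∈ J ^ (n + 1) • (⊤ : Submodule A N) := by
    intro n
    have hq := H17.PullSect.isQuotOn_of_isAffineOpen (i n) (tilde (R := CommRingCat.of A) N)
      (inferInstanceAs (tilde (R := CommRingCat.of A) N).IsQuasicoherent) (isAffineOpen_top (Spec (CommRingCat.of A)))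
    refine ⟨fun z => ?_, fun x => ⟨fun hx => ?_, fun hx => ?_⟩⟩
    · obtain ⟨y, hy⟩ := hq.1 z
      exact ⟨(tildeSecEquiv A hover N).symm y,
        (congrArg (H24Formal.secMap A ((adj n).unit.app (tilde (R := CommRingCat.of A) N)) ⊤)
          ((tildeSecEquiv A hover N).apply_symm_apply y)).trans hy⟩
    · have h2 := hq.2 _ hx
      let T : Submodule A N := J ^ (n + 1) • ⊤
      let sec : H24Formal.SecMod A (tilde (R := CommRingCat.of A) N) ⊤ →ₗ[A] N :=
        (tildeSecEquiv A hover N).symm.toLinearMap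
      have key : ∀ r ∈ (J ^ (n + 1)).map (H24Formal.scalA (X := Spec (CommRingCat.of A)) A ⊤),
          ∀ y : Γ(tilde (R := CommRingCat.of A) N, ⊤), sec (show Γ(tilde (R := CommRingCat.of A) N, ⊤) from r • y) ∈ T := by
        intro r hr
        induction hr using Submodule.span_induction with
        | mem r hr =>
          obtain ⟨b, hb, rfl⟩ := hr
          intro y
          have e : sec (show Γ(tilde (R := CommRingCat.of A) N, ⊤) from
              H24Formal.scalA (X := Spec (CommRingCat.of A)) A ⊤ b • y) = b • sec y :=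
            map_smul sec b (show H24Formal.SecMod A (tilde (R := CommRingCat.of A) N) ⊤ from y)
          rw [e]
          exact Submodule.smul_mem_smul hb trivial
        | zero => intro y; rw [zero_smul]; exact (map_zero sec).symm ▸ T.zero_mem
        | add r r' _ _ h h' =>
          intro y
          rw [add_smul]
          exact (map_add sec _ _).symm ▸ T.add_mem (h y) (h' y)
        | smul c r _ h => intro y; rw [smul_eq_mul, mul_comm, mul_smul]; exact h (c • y)
      have h3 : ∀ q : Γ(tilde (R := CommRingCat.of A) N, ⊤),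
          q ∈ RingHom.ker ((i n).app ⊤).hom • (⊤ : Submodule Γ(Spec (CommRingCat.of A), ⊤) Γ(tilde (R := CommRingCat.of A) N, ⊤)) →
            sec q ∈ T := by
        intro q hq
        refine Submodule.smul_induction_on hq (fun r hr y _ => key r ?_ y) fun p q hp hq => ?_
        · exact (hker n ⊤ (isAffineOpen_top _)).le hr
        · exact (map_add sec p q).symm ▸ T.add_mem hp hq
      have h4 := h3 _ h2
      exact ((tildeSecEquiv A hover N).symm_apply_apply x) ▸ h4
    · refine Submodule.smul_induction_on hx (fun b hb y _ => ?_) fun p q hp hq => by rw [map_add, hp, hq, add_zero]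
      rw [map_smul]
      exact congr($(congrArg (fun k => Scheme.Modules.Hom.app k ⊤) (smulMod_pushforward_eq_zero J i
        hker hb _)) (θ N n y))
  let e := fun (L : ModuleCat.{u} A) (n : ℕ) =>
    stdTrans (ι n) (i (n + 1)) (i n) (hι n) (tilde (R := CommRingCat.of A) L)
  have ht : ∀ (L : ModuleCat.{u} A) (n : ℕ),
      (adj (n + 1)).unit.app (tilde (R := CommRingCat.of A) L) ≫ pushTrans (ι n) (i (n + 1)) (i n) (hι n) (e L n) =
      (adj n).unit.app (tilde (R := CommRingCat.of A) L) := fun L n =>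
    unit_pushTrans (ι n) (i (n + 1)) (i n) (hι n) (tilde (R := CommRingCat.of A) L) (e L n) rfl
  let y : ∀ n, M →ₗ[A] H24Formal.SecMod A ((Scheme.Modules.pushforward (i n)).obj
      ((Scheme.Modules.pullback (i n)).obj (tilde (R := CommRingCat.of A) N))) ⊤ := fun n =>
    (H24Formal.secMap A ((Scheme.Modules.pushforward (i n)).map (a n)) ⊤) ∘ₗ θ M n
  let tN := fun n => H24Formal.secMap A (pushTrans (ι n) (i (n + 1)) (i n) (hι n) (e N n)) ⊤
  have htθ : ∀ n (x : N), tN n (θ N (n + 1) x) = θ N n x := fun n x =>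
    comp_eq_apply (ht N n) ⊤ (tildeSecEquiv A hover N x)
  have hy : ∀ n (m : M), tN n (y (n + 1) m) = y n m := fun n m =>
    square_apply (pushTrans_natural (ι n) (i (n + 1)) (i n) (hι n) (e M n) (e N n) (a (n + 1)) (a n) (hcomm n))
      (ht M n) ⊤ (tildeSecEquiv A hover M m)
  have hlevel : ∀ (w : M ⟶ N) (n : ℕ) (m : M), θ N n (w m) = ((Scheme.Modules.pushforward (i n)).map
      ((Scheme.Modules.pullback (i n)).map (tilde.map (R := CommRingCat.of A) w))).app ⊤ (θ M n m) := fun w n m =>
    (congrArg (((adj n).unit.app (tilde (R := CommRingCat.of A) N)).app ⊤) (tilde_map_sec A hover w m)).symm.trans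
      (comp_comm_apply ((adj n).unit.naturality (tilde.map (R := CommRingCat.of A) w)) ⊤ (tildeSecEquiv A hover M m))
  have hex : ∀ m : M, ∃! x : N, ∀ n, θ N n x = y n m := by
    intro m
    choose x hx using fun n => (hθ n).1 (y n m)
    have hc : ∀ n, x (n + 1) - x n ∈ J ^ (n + 1) • (⊤ : Submodule A N) := fun n => by
      rw [← (hθ n).2, map_sub, sub_eq_zero, hx n, ← htθ, hx (n + 1), hy]
    have hc' : ∀ {p q : ℕ}, p ≤ q → x q - x p ∈ J ^ (p + 1) • (⊤ : Submodule A N) := by
      intro p q hpq
      induction q, hpq using Nat.le_induction with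
      | base => simp
      | succ q hq ih =>
        have h5 := Submodule.add_mem _ (Submodule.smul_mono_left (Ideal.pow_le_pow_right (by omega)) (hc q)) ih
        rwa [sub_add_sub_cancel] at h5
    let x' : ℕ → N := fun n => x n
    obtain ⟨z, hz⟩ := IsPrecomplete.prec (I := J) inferInstance (f := x') (fun {p q} hpq => by
      rw [SModEq.sub_mem]
      have h5 := Submodule.smul_mono_left (Ideal.pow_le_pow_right (Nat.le_succ p)) (hc' hpq)
      rw [← neg_sub]
      exact neg_mem h5)
    have hz' : ∀ n, θ N n z = y n m := fun n => by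
      rw [← hx n, ← sub_eq_zero, ← map_sub, (hθ n).2, ← neg_sub]
      refine neg_mem ?_
      have h5 := Submodule.add_mem _ (SModEq.sub_mem.mp (hz (n + 1)))
        (neg_mem (hc' (Nat.le_succ n)))
      have e : x' (n + 1) - z + -(x (n + 1) - x n) = x n - z := by
        show x (n + 1) - z + -(x (n + 1) - x n) = x n - z
        abel
      rwa [e] at h5
    refine ⟨z, hz', fun w hw => ?_⟩
    rw [← sub_eq_zero]
    refine IsHausdorff.haus (I := J) inferInstance _ fun n => ?_
    rcases n with _ | n
    · simp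
    rw [SModEq.zero, ← (hθ n).2, map_sub, hw n, hz' n, sub_self]
  choose u hu huniq using hex
  let uL : M →ₗ[A] N :=
    { toFun := u
      map_add' := fun p q => (huniq (p + q) _ fun n => by rw [map_add, map_add, hu p n, hu q n]).symm
      map_smul' := fun r p => (huniq (r • p) _ fun n => by
        rw [RingHom.id_apply, map_smul, map_smul, hu p n]).symm }
  refine ⟨ModuleCat.ofHom uL, fun n => ((adj n).homEquiv _ _).injective ?_, fun w hw => ?_⟩
  · rw [Adjunction.homEquiv_unit, Adjunction.homEquiv_unit]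
    refine tilde_hom_ext A hover _ _ fun m => ?_
    exact (hlevel (ModuleCat.ofHom uL) n m).symm.trans (hu m n)
  · refine ModuleCat.hom_ext (LinearMap.ext fun m => huniq m (w m) fun n => ?_)
    rw [hlevel w n m, hw n]
    rfl

theorem complMod_comm {X : Scheme.{u}} (𝓘 : X.IdealSheafData) {F G : X.Modules}
    (a : FSch.complMod 𝓘 F ⟶ FSch.complMod 𝓘 G) (n : ℕ)
    (hι : (FSch.completionAlong X 𝓘).ι n ≫ FSch.completionToX X 𝓘 (n + 1) = FSch.completionToX X 𝓘 n) :
    (Scheme.Modules.pullback ((FSch.completionAlong X 𝓘).ι n)).map (a.app (n + 1)) ≫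
        (stdTrans ((FSch.completionAlong X 𝓘).ι n) (FSch.completionToX X 𝓘 (n + 1)) (FSch.completionToX X 𝓘 n) hι G).hom =
      (stdTrans ((FSch.completionAlong X 𝓘).ι n) (FSch.completionToX X 𝓘 (n + 1)) (FSch.completionToX X 𝓘 n) hι F).hom ≫
        a.app n :=
  ((congrArg ((Scheme.Modules.pullback ((FSch.completionAlong X 𝓘).ι n)).map (a.app (n + 1)) ≫ ·)
      (complTransIso_app 𝓘 G n hι).symm).trans (a.comm n)).trans
    (congrArg (· ≫ a.app n) (complTransIso_app 𝓘 F n hι))

theorem complι {A : Type u} [CommRing A] (J : Ideal A) (n : ℕ) : (FSch.completionAlong (Spec (CommRingCat.of A)) (FSch.idealSpec A J)).ι n ≫ FSch.completionToX (Spec (CommRingCat.of A)) (FSch.idealSpec A J) (n+1) = FSch.completionToX (Spec (CommRingCat.of A)) (FSch.idealSpec A J) n := Scheme.IdealSheafData.inclusion_subschemeι _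

/-- The level `n` component of a morphism of completions. -/
noncomputable def complHomLevel {X : Scheme.{u}} (𝓘 : X.IdealSheafData) {F G : X.Modules}
    (a : FSch.complMod 𝓘 F ⟶ FSch.complMod 𝓘 G) (n : ℕ) :
    (Scheme.Modules.pullback (FSch.completionToX X 𝓘 n)).obj F ⟶
      (Scheme.Modules.pullback (FSch.completionToX X 𝓘 n)).obj G :=
  a.app n

theorem complHomLevel_comm {X : Scheme.{u}} (𝓘 : X.IdealSheafData) {F G : X.Modules}
    (a : FSch.complMod 𝓘 F ⟶ FSch.complMod 𝓘 G) (n : ℕ)
    (hι : (FSch.completionAlong X 𝓘).ι n ≫ FSch.completionToX X 𝓘 (n + 1) = FSch.completionToX X 𝓘 n) :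
    (Scheme.Modules.pullback ((FSch.completionAlong X 𝓘).ι n)).map (complHomLevel 𝓘 a (n + 1)) ≫
        (stdTrans ((FSch.completionAlong X 𝓘).ι n) (FSch.completionToX X 𝓘 (n + 1)) (FSch.completionToX X 𝓘 n) hι G).hom =
      (stdTrans ((FSch.completionAlong X 𝓘).ι n) (FSch.completionToX X 𝓘 (n + 1)) (FSch.completionToX X 𝓘 n) hι F).hom ≫
        complHomLevel 𝓘 a n :=
  complMod_comm 𝓘 a n hι

theorem complHom_ext {X : Scheme.{u}} (𝓘 : X.IdealSheafData) {F G : X.Modules}
    (φ : F ⟶ G) (a : FSch.complMod 𝓘 F ⟶ FSch.complMod 𝓘 G)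
    (h : ∀ n, (Scheme.Modules.pullback (FSch.completionToX X 𝓘 n)).map φ = complHomLevel 𝓘 a n) :
    FSch.complModMap 𝓘 φ = a :=
  FSch.ModSys.Hom.ext (funext h)

theorem complHomLevel_complModMap {X : Scheme.{u}} (𝓘 : X.IdealSheafData) {F G : X.Modules} (φ : F ⟶ G) (n : ℕ) :
    complHomLevel 𝓘 (FSch.complModMap 𝓘 φ) n = (Scheme.Modules.pullback (FSch.completionToX X 𝓘 n)).map φ :=
  rfl

include hover in
theorem bijective_complModMap [IsNoetherianRing A] (J : Ideal A) [IsAdicComplete J A]
    (M N : ModuleCat.{u} A) [Module.Finite A M] [Module.Finite A N] :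
    Function.Bijective (fun u : M ⟶ N => FSch.complModMap (FSch.idealSpec A J)
      ((tilde.functor (CommRingCat.of A)).map u)) := by
  haveI : ∀ n, IsClosedImmersion (FSch.completionToX (Spec (CommRingCat.of A)) (FSch.idealSpec A J) n) := fun n =>
    inferInstanceAs (IsClosedImmersion (FSch.idealSpec A J ^ (n + 1)).subschemeι)
  have key := fun (a : FSch.complMod (FSch.idealSpec A J) (tilde (R := CommRingCat.of A) M) ⟶
      FSch.complMod (FSch.idealSpec A J) (tilde (R := CommRingCat.of A) N)) =>
    existsUnique_hom_of_compatible A hover J (FSch.completionAlong (Spec (CommRingCat.of A)) (FSch.idealSpec A J)).ι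
      (FSch.completionToX (Spec (CommRingCat.of A)) (FSch.idealSpec A J))
      (complι J)
      (fun n W hW => ker_app_subscheme A hover J n W hW) M N (complHomLevel _ a) (fun n => complHomLevel_comm _ a n (complι J n))
  refine ⟨fun u v huv => ?_, fun a => ?_⟩
  · exact (key (FSch.complModMap (FSch.idealSpec A J) (tilde.map (R := CommRingCat.of A) v))).unique
      (fun n => ((complHomLevel_complModMap _ _ n).symm.trans (congrArg (fun φ => complHomLevel (FSch.idealSpec A J) φ n) huv)))
      (fun n => (complHomLevel_complModMap _ _ n).symm)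
  · obtain ⟨u, hu, -⟩ := key a
    exact ⟨u, complHom_ext _ _ _ hu⟩

end Sections

end Groth.Agent.H24FSch
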