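import Groth.Prelude.Def_FSch3
import Groth.Agent.H29Blow.Basic
import Groth.Agent.H8Props.ThickeningFiniteType

/-! Ideal sheaves of formal schemes: elementary facts. -/

set_option autoImplicit false
set_option linter.style.haveILetI false

universe u

open CategoryTheory Limits AlgebraicGeometry TopologicalSpace

namespace Groth.Agent.H24FSch

theorem idealSpec_ideal_top (A : Type u) [CommRing A] (J : Ideal A) :
    (FSch.idealSpec A J).ideal ⟨⊤, isAffineOpen_top _⟩ =
      J.map (Scheme.ΓSpecIso (CommRingCat.of A)).inv.hom := by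
  rw [FSch.idealSpec, Scheme.Hom.ker_apply]
  let eA := (Scheme.ΓSpecIso (CommRingCat.of A)).commRingCatIsoToRingEquiv
  ext x
  have h := Scheme.ΓSpecIso_naturality (CommRingCat.ofHom (Ideal.Quotient.mk J))
  have hx := ConcreteCategory.congr_hom h x
  rw [RingHom.mem_ker]
  constructor
  · intro hx0
    have : Ideal.Quotient.mk J (eA x) = 0 := by
      refine hx.symm.trans ?_
      exact (congrArg (Scheme.ΓSpecIso (CommRingCat.of (A ⧸ J))).hom.hom hx0).trans (map_zero _)
    rw [← eA.symm_apply_apply x]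
    exact Ideal.mem_map_of_mem _ (Ideal.Quotient.eq_zero_iff_mem.mp this)
  · intro hxJ
    have hA : eA x ∈ J := by
      have := Ideal.mem_map_of_mem eA.toRingHom hxJ
      rw [Ideal.map_map] at this
      rwa [show eA.toRingHom.comp (Scheme.ΓSpecIso (CommRingCat.of A)).inv.hom = RingHom.id A from
        RingHom.ext fun a => eA.apply_symm_apply a, Ideal.map_id] at this
    apply (Scheme.ΓSpecIso (CommRingCat.of (A ⧸ J))).commRingCatIsoToRingEquiv.injective
    refine Eq.trans ?_ (map_zero _).symm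
    exact hx.trans (Ideal.Quotient.eq_zero_iff_mem.mpr hA)

theorem idealSpec_pow (A : Type u) [CommRing A] (J : Ideal A) (n : ℕ) :
    FSch.idealSpec A J ^ n = FSch.idealSpec A (J ^ n) := by
  apply Scheme.IdealSheafData.ext_of_isAffine
  rw [Scheme.IdealSheafData.ideal_pow, Pi.pow_apply, idealSpec_ideal_top, idealSpec_ideal_top, Ideal.map_pow]

theorem comap_idealSpec (A B : Type u) [CommRing A] [CommRing B] (φ : B →+* A) (𝔟 : Ideal B) :
    (FSch.idealSpec B 𝔟).comap (Spec.map (CommRingCat.ofHom φ)) = FSch.idealSpec A (𝔟.map φ) := by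
  apply Scheme.IdealSheafData.ext_of_isAffine
  rw [H29Blow.ideal_comap_top, idealSpec_ideal_top, idealSpec_ideal_top, Ideal.map_map, Ideal.map_map]
  congr 1
  exact congrArg CommRingCat.Hom.hom (Scheme.ΓSpecIso_inv_naturality (CommRingCat.ofHom φ)).symm

/-- On a quasi-compact scheme, a finite type ideal sheaf is nilpotent modulo an ideal sheaf with smaller support. -/
theorem exists_pow_le {Y : Scheme.{u}} [CompactSpace Y] {I J : Y.IdealSheafData}
    (hI : ∀ V : Y.affineOpens, (I.ideal V).FG) (h : (J.support : Set Y) ⊆ (I.support : Set Y)) :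
    ∃ n : ℕ, 1 ≤ n ∧ I ^ n ≤ J := by
  classical
  have hloc : ∀ V : Y.affineOpens, ∃ n, I.ideal V ^ n ≤ J.ideal V := by
    intro V
    refine Ideal.exists_pow_le_of_le_radical_of_fg (fun x hx => ?_) (hI V)
    rw [← PrimeSpectrum.vanishingIdeal_zeroLocus_eq_radical, PrimeSpectrum.mem_vanishingIdeal]
    intro p hp
    have hJ : V.2.fromSpec p ∈ (J.support : Set Y) ∩ V.1 := by
      rw [Scheme.IdealSheafData.coe_support_inter]
      refine ⟨?_, V.2.range_fromSpec.subset ⟨p, rfl⟩⟩
      show p ∈ V.2.fromSpec ⁻¹' Y.zeroLocus (J.ideal V : Set Γ(Y, V.1))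
      rw [V.2.fromSpec_preimage_zeroLocus]
      exact hp
    have hI' : V.2.fromSpec p ∈ (I.support : Set Y) ∩ V.1 := ⟨h hJ.1, hJ.2⟩
    rw [Scheme.IdealSheafData.coe_support_inter] at hI'
    have hp' : p ∈ V.2.fromSpec ⁻¹' Y.zeroLocus (I.ideal V : Set Γ(Y, V.1)) := hI'.1
    rw [V.2.fromSpec_preimage_zeroLocus] at hp'
    exact hp' hx
  choose m hm using hloc
  obtain ⟨s, hs⟩ := isCompact_univ.elim_finite_subcover (fun V : Y.affineOpens => (V.1 : Set Y))
    (fun V => V.1.2) fun x _ => by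
      obtain ⟨V, hV, hxV, -⟩ := exists_isAffineOpen_mem_and_subset (Opens.mem_top x)
      exact Set.mem_iUnion.mpr ⟨⟨V, hV⟩, hxV⟩
  refine ⟨s.sup m + 1, by omega, Scheme.IdealSheafData.le_of_iSup_eq_top (fun V : s => V.1) ?_ fun V => ?_⟩
  · refine top_le_iff.mp fun x _ => ?_
    obtain ⟨V, hV, hxV⟩ := Set.mem_iUnion₂.mp (hs (Set.mem_univ x))
    exact Opens.mem_iSup.mpr ⟨⟨V, hV⟩, hxV⟩
  · rw [Scheme.IdealSheafData.ideal_pow, Pi.pow_apply]
    exact (Ideal.pow_le_pow_right (Nat.le_succ_of_le (Finset.le_sup V.2))).trans (hm V.1)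

/-- On a locally Noetherian scheme every ideal sheaf is of finite type. -/
theorem idealFT_of_isLocallyNoetherian {X : Scheme.{u}} [IsLocallyNoetherian X] (I : X.IdealSheafData) :
    FSch.IdealFT I := fun V => by
  haveI := IsLocallyNoetherian.component_noetherian V
  exact IsNoetherian.noetherian _

/-- The kernel of a surjective closed immersion is locally nil. -/
theorem isNilpotent_ker_ideal {X X₀ : Scheme.{u}} (i : X₀ ⟶ X) [IsClosedImmersion i] [Surjective i]
    (U : X.affineOpens) (hfg : (i.ker.ideal U).FG) : IsNilpotent (i.ker.ideal U) := by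
  have hsupp : (i.ker.support : Set X) = Set.univ := by
    rw [Scheme.Hom.support_ker]
    simp [i.surjective.range_eq]
  have hrad : i.ker.ideal U ≤ (⊥ : Ideal Γ(X, U.1)).radical := fun x hx => by
    rw [← PrimeSpectrum.vanishingIdeal_zeroLocus_eq_radical, PrimeSpectrum.mem_vanishingIdeal]
    intro p _
    have hp : U.2.fromSpec p ∈ (i.ker.support : Set X) ∩ U.1 :=
      ⟨hsupp ▸ Set.mem_univ _, U.2.range_fromSpec.subset ⟨p, rfl⟩⟩
    rw [Scheme.IdealSheafData.coe_support_inter] at hp
    have hp' : p ∈ U.2.fromSpec ⁻¹' X.zeroLocus (i.ker.ideal U : Set Γ(X, U.1)) := hp.1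
    rw [U.2.fromSpec_preimage_zeroLocus] at hp'
    exact hp' hx
  obtain ⟨n, hn⟩ := Ideal.exists_pow_le_of_le_radical_of_fg hrad hfg
  exact ⟨n, le_bot_iff.mp hn⟩

end Groth.Agent.H24FSch
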