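import Groth.Agent.H24FSch.Basic
import Groth.Agent.H24Def.BurchLift
import Mathlib.RingTheory.Ideal.Oka

/-! Levels of formal adic systems of schemes. -/

set_option autoImplicit false
set_option linter.style.haveILetI false

universe u

open CategoryTheory Limits AlgebraicGeometry TopologicalSpace

namespace Groth.Agent.H24FSch

/-- Kernel of a surjection of spectra. -/
theorem ker_specMap_of_surjective {A B : Type u} [CommRing A] [CommRing B] (φ : A →+* B)
    (hφ : Function.Surjective φ) :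
    (Spec.map (CommRingCat.ofHom φ)).ker = FSch.idealSpec A (RingHom.ker φ) := by
  let e := RingHom.quotientKerEquivOfSurjective hφ
  haveI : IsIso (CommRingCat.ofHom e.toRingHom) := inferInstanceAs (IsIso e.toCommRingCatIso.hom)
  have : CommRingCat.ofHom φ = CommRingCat.ofHom (Ideal.Quotient.mk (RingHom.ker φ)) ≫ CommRingCat.ofHom e.toRingHom :=
    CommRingCat.hom_ext (RingHom.ext fun x => rfl)
  rw [this, Spec.map_comp, Scheme.Hom.ker_comp_of_isIso]
  rfl

/-- Pulling back along a closed immersion the kernel of a composite. -/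
theorem comap_ker_comp {X Y Z : Scheme.{u}} (f : X ⟶ Y) (g : Y ⟶ Z) [IsClosedImmersion f] [IsClosedImmersion g] :
    (f ≫ g).ker.comap g = f.ker := by
  refine Scheme.IdealSheafData.ext_of_iSup_eq_top
    (fun W : Z.affineOpens => (⟨g ⁻¹ᵁ W.1, W.2.preimage g⟩ : Y.affineOpens)) ?_ fun W => ?_
  · refine top_le_iff.mp fun y _ => ?_
    obtain ⟨V, hV, hyV, -⟩ := exists_isAffineOpen_mem_and_subset (Opens.mem_top (g y))
    exact Opens.mem_iSup.mpr ⟨⟨V, hV⟩, hyV⟩
  · rw [H29Blow.ideal_comap _ g W ⟨g ⁻¹ᵁ W.1, W.2.preimage g⟩ le_rfl, Scheme.Hom.ker_apply,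
      Scheme.Hom.ker_apply, Scheme.Hom.comp_app]
    have h1 : g.appLE W.1 (g ⁻¹ᵁ W.1) le_rfl = g.app W.1 := (Scheme.Hom.app_eq_appLE g).symm
    show Ideal.map (g.appLE W.1 (g ⁻¹ᵁ W.1) le_rfl).hom
      (RingHom.ker ((f.app (g ⁻¹ᵁ W.1)).hom.comp (g.app W.1).hom)) = RingHom.ker (f.app (g ⁻¹ᵁ W.1)).hom
    rw [h1, ← RingHom.comap_ker]
    exact Ideal.map_comap_of_surjective _ (g.app_surjective W.1 W.2) _

/-- A nilpotent finitely generated ideal with Noetherian quotient. -/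
theorem isNoetherianRing_of_nilpotent {R : Type u} [CommRing R] (K : Ideal R) (hK : IsNilpotent K) (hfg : K.FG)
    [IsNoetherianRing (R ⧸ K)] : IsNoetherianRing R := by
  refine IsNoetherianRing.of_prime fun P hP => ?_
  have hKP : K ≤ P := fun x hx => by
    obtain ⟨n, hn⟩ := hK
    refine hP.mem_of_pow_mem n ?_
    have := Ideal.pow_mem_pow hx n
    rw [hn, Ideal.zero_eq_bot, Ideal.mem_bot] at this
    rw [this]
    exact zero_mem _
  refine Ideal.fg_of_fg_map_of_fg_inf_ker_of_surjective (f := Ideal.Quotient.mk K)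
    (IsNoetherian.noetherian _) ?_ Ideal.Quotient.mk_surjective
  rw [Ideal.mk_ker, inf_eq_right.mpr hKP]
  exact hfg

/-- A nilpotent ideal finitely generated modulo a higher power is finitely generated. -/
theorem fg_of_fg_mod_pow {R : Type u} [CommRing R] (K : Ideal R) (hK : IsNilpotent K) {m : ℕ} (hm : 2 ≤ m)
    [IsNoetherianRing (R ⧸ K ^ m)] : K.FG := by
  classical
  obtain ⟨s, hs⟩ := IsNoetherian.noetherian (R := R ⧸ K ^ m) (K.map (Ideal.Quotient.mk (K ^ m)))
  have hlift : ∀ y : R ⧸ K ^ m, ∃ x, y ∈ K.map (Ideal.Quotient.mk (K ^ m)) → x ∈ K ∧ Ideal.Quotient.mk (K ^ m) x = y := by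
    intro y
    by_cases hy : y ∈ K.map (Ideal.Quotient.mk (K ^ m))
    · obtain ⟨x, hx, hxy⟩ := (Ideal.mem_map_iff_of_surjective _ Ideal.Quotient.mk_surjective).mp hy
      exact ⟨x, fun _ => ⟨hx, hxy⟩⟩
    · exact ⟨0, fun h => absurd h hy⟩
  choose σ hσ using hlift
  have hσs : ∀ y ∈ s, σ y ∈ K ∧ Ideal.Quotient.mk (K ^ m) (σ y) = y := fun y hy =>
    hσ y (hs ▸ Submodule.subset_span hy)
  let S := Ideal.span (σ '' (s : Set (R ⧸ K ^ m)))
  have hSK : S ≤ K := Ideal.span_le.mpr (by rintro _ ⟨y, hy, rfl⟩; exact (hσs y hy).1)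
  suffices K ≤ S from ⟨s.image σ, by rw [Finset.coe_image]; exact le_antisymm hSK this⟩
  refine Groth.Agent.H24Def.le_of_le_sup_smul hK fun x hx => ?_
  have hx' : Ideal.Quotient.mk (K ^ m) x ∈ S.map (Ideal.Quotient.mk (K ^ m)) := by
    rw [Ideal.map_span, ← Set.image_comp,
      show (⇑(Ideal.Quotient.mk (K ^ m)) ∘ σ) '' (s : Set (R ⧸ K ^ m)) = id '' (s : Set (R ⧸ K ^ m)) from
        Set.image_congr fun y hy => (hσs y hy).2, Set.image_id]
    show Ideal.Quotient.mk (K ^ m) x ∈ Submodule.span (R ⧸ K ^ m) (s : Set (R ⧸ K ^ m))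
    rw [hs]
    exact Ideal.mem_map_of_mem _ hx
  obtain ⟨y, hy, hyx⟩ := (Ideal.mem_map_iff_of_surjective _ Ideal.Quotient.mk_surjective).mp hx'
  refine Submodule.mem_sup.mpr ⟨y, hy, x - y, ?_, add_sub_cancel y x⟩
  rw [smul_eq_mul, ← pow_two]
  exact Ideal.pow_le_pow_right hm (Ideal.Quotient.eq.mp hyx.symm)

variable {𝔛 : FSch.Sys.{u}}

theorem isClosedImmersion_surjective_toX (hF : 𝔛.IsFormal) (n : ℕ) :
    IsClosedImmersion (𝔛.toX n) ∧ Surjective (𝔛.toX n) := by
  induction n with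
  | zero =>
    change IsClosedImmersion (𝟙 (𝔛.X 0)) ∧ Surjective (𝟙 (𝔛.X 0))
    exact ⟨inferInstance, inferInstance⟩
  | succ n ih =>
    haveI := ih.1
    haveI := ih.2
    haveI := (hF n).1
    haveI : Surjective (𝔛.ι n) := ⟨(hF n).2⟩
    change IsClosedImmersion (𝔛.toX n ≫ 𝔛.ι n) ∧ Surjective (𝔛.toX n ≫ 𝔛.ι n)
    exact ⟨inferInstance, inferInstance⟩

theorem comap_toX_ker (hF : 𝔛.IsFormal) (n : ℕ) : (𝔛.toX (n + 1)).ker.comap (𝔛.ι n) = (𝔛.toX n).ker := by
  haveI := (isClosedImmersion_surjective_toX hF n).1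
  haveI := (hF n).1
  exact comap_ker_comp _ _

theorem comap_pow {X Y : Scheme.{u}} (g : X ⟶ Y) [IsClosedImmersion g] (I : Y.IdealSheafData) :
    ∀ m : ℕ, (I ^ (m + 1)).comap g = I.comap g ^ (m + 1)
  | 0 => by simp
  | m + 1 => by rw [pow_succ, H29Blow.comap_mul, comap_pow g I m, ← pow_succ]

theorem comap_ker_self {X Y : Scheme.{u}} (g : X ⟶ Y) [IsClosedImmersion g] : g.ker.comap g = ⊥ := by
  have := comap_ker_comp (𝟙 X) g
  rwa [Category.id_comp, Scheme.Hom.ker_eq_bot_of_isIso (𝟙 X)] at this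

theorem toX_ker_pow_eq_bot (hF : 𝔛.IsFormal) (hA : 𝔛.IsAdic) (n : ℕ) : (𝔛.toX n).ker ^ (n + 1) = ⊥ := by
  haveI := (hF n).1
  rw [← comap_toX_ker hF n, ← comap_pow, ← hA n, comap_ker_self]

/-- The levels of an adic formal system with Noetherian first level are locally Noetherian. -/
theorem isLocallyNoetherian_level (hF : 𝔛.IsFormal) (hA : 𝔛.IsAdic) [IsLocallyNoetherian (𝔛.X 0)]
    (hft : FSch.IdealFT (𝔛.ι 0).ker) (n : ℕ) : IsLocallyNoetherian (𝔛.X n) := by
  induction n with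
  | zero => infer_instance
  | succ n ih =>
    haveI := ih
    haveI := (hF n).1
    refine ⟨fun V => ?_⟩
    let R := Γ(𝔛.X (n + 1), V.1)
    let K : Ideal R := (𝔛.toX (n + 1)).ker.ideal V
    have hK : IsNilpotent K := ⟨n + 1 + 1, by
      have := congrArg (fun I => Scheme.IdealSheafData.ideal I V) (toX_ker_pow_eq_bot hF hA (n + 1))
      simp only [Scheme.IdealSheafData.ideal_pow, Pi.pow_apply, Scheme.IdealSheafData.ideal_bot, Pi.bot_apply] at this
      exact this⟩
    have hker : RingHom.ker ((𝔛.ι n).app V.1).hom = K ^ (n + 1) := by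
      rw [← Scheme.Hom.ker_apply (𝔛.ι n) V, hA n]
      rfl
    haveI : IsNoetherianRing Γ(𝔛.X n, (𝔛.ι n) ⁻¹ᵁ V.1) :=
      IsLocallyNoetherian.component_noetherian ⟨_, V.2.preimage (𝔛.ι n)⟩
    haveI hq : IsNoetherianRing (R ⧸ K ^ (n + 1)) :=
      isNoetherianRing_of_ringEquiv _ ((Ideal.quotEquivOfEq hker.symm).trans
        (RingHom.quotientKerEquivOfSurjective ((𝔛.ι n).app_surjective V.1 V.2))).symm
    rcases Nat.eq_zero_or_pos n with rfl | hn
    · have hfg : K.FG := by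
        have h0 : K = (𝔛.ι 0).ker.ideal V := by
          rw [hA 0]; exact (congrArg (fun I => Scheme.IdealSheafData.ideal I V) (pow_one _)).symm
        rw [h0]
        exact hft V
      haveI : IsNoetherianRing (R ⧸ K) := isNoetherianRing_of_ringEquiv _ (Ideal.quotEquivOfEq (by rw [zero_add, pow_one]) : R ⧸ K ^ (0 + 1) ≃+* R ⧸ K)
      exact isNoetherianRing_of_nilpotent K hK hfg
    · have hfg : K.FG := fg_of_fg_mod_pow K hK (show 2 ≤ n + 1 by omega)
      haveI : IsNoetherianRing (R ⧸ K) :=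
        isNoetherianRing_of_surjective _ _ _ (Ideal.Quotient.factor_surjective (Ideal.pow_le_self (show n + 1 ≠ 0 by omega)))
      exact isNoetherianRing_of_nilpotent K hK hfg

end Groth.Agent.H24FSch
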