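import Groth.Agent.H24FSch.Sub
import Groth.Prelude.Def_FSch4

/-! Fibre products of systems. -/

set_option autoImplicit false
set_option linter.style.haveILetI false

universe u

open CategoryTheory Limits AlgebraicGeometry TopologicalSpace

namespace Groth.Agent.H24FSch

variable {𝔛 𝔜 𝔖 𝔓 : FSch.Sys.{u}}

theorem isPullback_of_levelwise {a : 𝔓 ⟶ 𝔛} {b : 𝔓 ⟶ 𝔜} {f : 𝔛 ⟶ 𝔖} {g : 𝔜 ⟶ 𝔖}
    (h : ∀ n, IsPullback ((a : FSch.Hom 𝔓 𝔛).app n) ((b : FSch.Hom 𝔓 𝔜).app n) ((f : FSch.Hom 𝔛 𝔖).app n)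
      ((g : FSch.Hom 𝔜 𝔖).app n)) : IsPullback a b f g := by
  have w : a ≫ f = b ≫ g := FSch.Hom.ext (funext fun n => (h n).w)
  refine IsPullback.of_isLimit' ⟨w⟩ (PullbackCone.IsLimit.mk _
    (fun c => ⟨fun n => (h n).lift ((c.fst : FSch.Hom _ _).app n) ((c.snd : FSch.Hom _ _).app n)
      (congrArg (fun φ : FSch.Hom c.pt 𝔖 => φ.app n) c.condition), fun n => ?_⟩) ?_ ?_ ?_)
  · refine (h (n + 1)).hom_ext ?_ ?_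
    · rw [Category.assoc, Category.assoc, ← (a : FSch.Hom 𝔓 𝔛).comm n, IsPullback.lift_fst_assoc, IsPullback.lift_fst]
      exact (c.fst : FSch.Hom _ _).comm n
    · rw [Category.assoc, Category.assoc, ← (b : FSch.Hom 𝔓 𝔜).comm n, IsPullback.lift_snd_assoc, IsPullback.lift_snd]
      exact (c.snd : FSch.Hom _ _).comm n
  · exact fun c => FSch.Hom.ext (funext fun n => (h n).lift_fst _ _ _)
  · exact fun c => FSch.Hom.ext (funext fun n => (h n).lift_snd _ _ _)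
  · intro c m h1 h2
    refine FSch.Hom.ext (funext fun n => (h n).hom_ext ?_ ?_)
    · exact (congrArg (fun φ : FSch.Hom c.pt 𝔛 => φ.app n) h1).trans ((h n).lift_fst _ _ _).symm
    · exact (congrArg (fun φ : FSch.Hom c.pt 𝔜 => φ.app n) h2).trans ((h n).lift_snd _ _ _).symm

theorem isAdicHom_pullbackSnd (f : 𝔛 ⟶ 𝔖) (g : 𝔜 ⟶ 𝔖) (hf : FSch.IsAdicHom f) :
    FSch.IsAdicHom (FSch.pullbackSnd f g) := fun n => by
  have hR := IsPullback.of_hasPullback ((f : FSch.Hom 𝔛 𝔖).app (n + 1)) ((g : FSch.Hom 𝔜 𝔖).app (n + 1))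
  have hL := (IsPullback.of_hasPullback ((f : FSch.Hom 𝔛 𝔖).app n) ((g : FSch.Hom 𝔜 𝔖).app n)).paste_horiz (hf n)
  refine IsPullback.of_right ?_ ((FSch.pullbackSnd f g : FSch.Hom _ _).comm n).symm hR
  have e1 : (FSch.pullbackSys f g).ι n ≫ pullback.fst ((f : FSch.Hom 𝔛 𝔖).app (n + 1)) ((g : FSch.Hom 𝔜 𝔖).app (n + 1)) =
      pullback.fst _ _ ≫ 𝔛.ι n := pullback.lift_fst _ _ _
  have e2 : 𝔜.ι n ≫ (g : FSch.Hom 𝔜 𝔖).app (n + 1) = (g : FSch.Hom 𝔜 𝔖).app n ≫ 𝔖.ι n :=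
    ((g : FSch.Hom 𝔜 𝔖).comm n).symm
  exact e1.symm ▸ e2.symm ▸ hL

theorem isPullback_section {C : Type*} [Category C] {X₀ X₁ Y₀ Y₁ P₀ P₁ : C} {iX : X₀ ⟶ X₁} {iY : Y₀ ⟶ Y₁} [Mono iY]
    {iP : P₀ ⟶ P₁} {a₀ : X₀ ⟶ P₀} {a₁ : X₁ ⟶ P₁} {r₀ : P₀ ⟶ X₀} {r₁ : P₁ ⟶ X₁} {s₀ : P₀ ⟶ Y₀} {s₁ : P₁ ⟶ Y₁}
    {f₀ : X₀ ⟶ Y₀} {f₁ : X₁ ⟶ Y₁} (ha₀r : a₀ ≫ r₀ = 𝟙 X₀) (ha₀s : a₀ ≫ s₀ = f₀) (ha₁r : a₁ ≫ r₁ = 𝟙 X₁)
    (ha₁s : a₁ ≫ s₁ = f₁) (hr : iP ≫ r₁ = r₀ ≫ iX) (hs : iP ≫ s₁ = s₀ ≫ iY) (hf : f₀ ≫ iY = iX ≫ f₁)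
    (hw : iX ≫ a₁ = a₀ ≫ iP)
    (hext : ∀ {T : C} (u v : T ⟶ P₀), u ≫ r₀ = v ≫ r₀ → u ≫ s₀ = v ≫ s₀ → u = v) : IsPullback iX a₀ a₁ iP := by
  refine IsPullback.of_isLimit' ⟨hw⟩ (PullbackCone.IsLimit.mk _ (fun c => c.snd ≫ r₀) ?_ ?_ ?_)
  · intro c
    have hc := congrArg (fun φ => φ ≫ r₁) c.condition
    simp only [Category.assoc, ha₁r, Category.comp_id, hr] at hc
    rw [Category.assoc, hc]
  · intro c
    have hc := congrArg (fun φ => φ ≫ r₁) c.condition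
    have hc2 := congrArg (fun φ => φ ≫ s₁) c.condition
    simp only [Category.assoc, ha₁r, Category.comp_id, hr] at hc
    simp only [Category.assoc, ha₁s, hs, hc] at hc2
    refine hext _ _ (by rw [Category.assoc, ha₀r, Category.comp_id]) ?_
    rw [← cancel_mono iY]
    simp only [Category.assoc, reassoc_of% ha₀s, hf]
    exact hc2
  · intro c m h1 h2
    rw [← h2, Category.assoc, ha₀r, Category.comp_id]

theorem isAdicHom_graph (f : 𝔛 ⟶ 𝔜) (p : 𝔛 ⟶ 𝔖) (q : 𝔜 ⟶ 𝔖) (w : f ≫ q = p) (hY : ∀ n, Mono (𝔜.ι n)) :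
    FSch.IsAdicHom (FSch.graph f p q w) := fun n => by
  haveI := hY n
  exact isPullback_section (iY := 𝔜.ι n)
    (r₀ := pullback.fst ((p : FSch.Hom 𝔛 𝔖).app n) ((q : FSch.Hom 𝔜 𝔖).app n))
    (s₀ := pullback.snd ((p : FSch.Hom 𝔛 𝔖).app n) ((q : FSch.Hom 𝔜 𝔖).app n))
    (r₁ := pullback.fst ((p : FSch.Hom 𝔛 𝔖).app (n + 1)) ((q : FSch.Hom 𝔜 𝔖).app (n + 1)))
    (s₁ := pullback.snd ((p : FSch.Hom 𝔛 𝔖).app (n + 1)) ((q : FSch.Hom 𝔜 𝔖).app (n + 1)))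
    (pullback.lift_fst _ _ _) (pullback.lift_snd _ _ _) (pullback.lift_fst _ _ _) (pullback.lift_snd _ _ _)
    (pullback.lift_fst _ _ _) (pullback.lift_snd _ _ _) ((f : FSch.Hom 𝔛 𝔜).comm n)
    ((FSch.graph f p q w : FSch.Hom _ _).comm n).symm (fun u v h1 h2 => pullback.hom_ext h1 h2)

end Groth.Agent.H24FSch
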