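import Groth.Agent.H24FSch.ModSysPush
import Groth.Agent.H24FSch.Basic
import Groth.Agent.H24Formal.SpecComplete
import Groth.Agent.H17.OmegaAffine
import Mathlib.LinearAlgebra.TensorProduct.Quotient

/-! Coherent systems of modules on formal spectra of complete Noetherian rings. -/

set_option autoImplicit false
set_option linter.style.haveILetI false

universe u

open CategoryTheory CategoryTheory.Limits AlgebraicGeometry Opposite TopologicalSpace TensorProduct

namespace Groth.Agent.H24FSch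

variable (A : Type u) [CommRing A] [(Spec (CommRingCat.of A)).Over (Spec (CommRingCat.of A))]
  (hover : (Spec (CommRingCat.of A)) ↘ (Spec (CommRingCat.of A)) = 𝟙 _)

include hover in
theorem idealSpec_ideal (J : Ideal A) (V : (Spec (CommRingCat.of A)).affineOpens) :
    (FSch.idealSpec A J).ideal V = J.map (H24Formal.scalA A V.1) := by
  rw [← (FSch.idealSpec A J).map_ideal (show V ≤ ⟨⊤, isAffineOpen_top _⟩ from (le_top : V.1 ≤ ⊤)), idealSpec_ideal_top,
    Ideal.map_map]
  congr 1
  simp only [H24Formal.scalA, Coh.toGlobal, hover]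
  rfl

include hover in
theorem ker_app_subscheme (J : Ideal A) (n : ℕ) (W : (Spec (CommRingCat.of A)).Opens) (hW : IsAffineOpen W) :
    RingHom.ker ((FSch.completionToX (Spec (CommRingCat.of A)) (FSch.idealSpec A J) n).app W).hom =
      (J ^ (n + 1)).map (H24Formal.scalA A W) := by
  refine ((FSch.idealSpec A J ^ (n + 1)).ker_subschemeι_app ⟨W, hW⟩).trans ?_
  rw [idealSpec_pow]
  exact idealSpec_ideal A hover (J ^ (n + 1)) ⟨W, hW⟩

include hover in
theorem ker_app_spf (J : Ideal A) (n : ℕ) (W : (Spec (CommRingCat.of A)).Opens) (hW : IsAffineOpen W) :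
    RingHom.ker ((CohB1.specQuot J n).app W).hom = (J ^ (n + 1)).map (H24Formal.scalA A W) := by
  haveI : IsClosedImmersion (CohB1.specQuot J n) := IsClosedImmersion.spec_of_surjective _ Ideal.Quotient.mk_surjective
  rw [← idealSpec_ideal A hover (J ^ (n + 1)) ⟨W, hW⟩]
  exact (Scheme.Hom.ker_apply (CohB1.specQuot J n) ⟨W, hW⟩).symm

omit [(Spec (CommRingCat.of A)).Over (Spec (CommRingCat.of A))] in
/-- `(A ⧸ K) ⊗ M` is `M / K M`. -/
theorem nonempty_pullback_tilde_iso (K : Ideal A) (M : ModuleCat.{u} A) :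
    Nonempty ((Scheme.Modules.pullback (Spec.map (CommRingCat.ofHom (Ideal.Quotient.mk K)))).obj
        (tilde (R := CommRingCat.of A) M) ≅
      tilde (R := CommRingCat.of (A ⧸ K)) (ModuleCat.of (A ⧸ K) (M ⧸ (K • (⊤ : Submodule A M))))) := by
  let φ := CommRingCat.ofHom (Ideal.Quotient.mk K)
  let e₀ := TensorProduct.quotTensorEquivQuotSMul M K
  let Q : ModuleCat.{u} (A ⧸ K) := ModuleCat.of (A ⧸ K) (M ⧸ (K • (⊤ : Submodule A M)))
  let q : M ⟶ (ModuleCat.restrictScalars φ.hom).obj Q := ModuleCat.ofHom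
    (Y := (ModuleCat.restrictScalars φ.hom).obj Q)
    { toFun := fun m => (Submodule.Quotient.mk m : M ⧸ (K • (⊤ : Submodule A M)))
      map_add' := fun _ _ => rfl
      map_smul' := fun _ _ => rfl }
  let f : (ModuleCat.extendScalars φ.hom).obj M ⟶ Q :=
    ((ModuleCat.extendRestrictScalarsAdj φ.hom).homEquiv M Q).symm q
  have hf : ∀ x, f x = e₀ x := by
    intro x
    induction x using TensorProduct.induction_on with
    | zero => exact (map_zero f.hom).trans (map_zero e₀).symm
    | tmul s m =>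
      obtain ⟨b, rfl⟩ := Ideal.Quotient.mk_surjective s
      refine Eq.trans ?_ (TensorProduct.quotTensorEquivQuotSMul_mk_tmul K b m).symm
      rfl
    | add x y hx hy => exact (map_add f.hom x y).trans ((congrArg₂ (· + ·) hx hy).trans (map_add e₀ x y).symm)
  haveI : IsIso f := (ConcreteCategory.isIso_iff_bijective f).2 (by
    rw [show (f : (ModuleCat.extendScalars φ.hom).obj M → Q) = (fun x => e₀ x) from funext hf]
    exact e₀.bijective)
  let e := asIso f
  exact ⟨(H17.OmegaAffine.pullbackTildeIso φ).app M ≪≫ (tilde.functor (CommRingCat.of (A ⧸ K))).mapIso e⟩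

omit [(Spec (CommRingCat.of A)).Over (Spec (CommRingCat.of A))] in
/-- Levelwise isomorphisms compatible with the transitions give an isomorphism of systems. -/
theorem nonempty_iso_of_levels {𝔛 : FSch.Sys.{u}} (𝔐 𝔑 : FSch.ModSys 𝔛) (α : ∀ n, 𝔑.F n ≅ 𝔐.F n)
    (hα : ∀ n, (Scheme.Modules.pullback (𝔛.ι n)).map (α (n + 1)).hom ≫ (𝔐.e n).hom = (𝔑.e n).hom ≫ (α n).hom) :
    Nonempty (𝔐 ≅ 𝔑) := by
  let E : 𝔑 ⟶ 𝔐 := ⟨fun n => (α n).hom, hα⟩
  let B : 𝔐 ⟶ 𝔑 := ⟨fun n => (α n).inv, fun n => by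
    refine (Iso.eq_comp_inv (α n)).2 ?_
    rw [Category.assoc, ← hα n, ← Functor.map_comp_assoc, Iso.inv_hom_id, CategoryTheory.Functor.map_id, Category.id_comp]⟩
  exact ⟨{ hom := B, inv := E
           hom_inv_id := FSch.ModSys.Hom.ext (funext fun n => (α n).inv_hom_id)
           inv_hom_id := FSch.ModSys.Hom.ext (funext fun n => (α n).hom_inv_id) }⟩

omit [(Spec (CommRingCat.of A)).Over (Spec (CommRingCat.of A))] in
theorem complTransIso_eq {X : Scheme.{u}} (𝓘 : X.IdealSheafData) (n : ℕ) :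
    FSch.complTransIso 𝓘 n =
      Scheme.Modules.pullbackComp ((FSch.completionAlong X 𝓘).ι n) (FSch.completionToX X 𝓘 (n + 1)) ≪≫
        Scheme.Modules.pullbackCongr (Scheme.IdealSheafData.inclusion_subschemeι (FSch.pow_succ_le X 𝓘 n)) := rfl

omit [(Spec (CommRingCat.of A)).Over (Spec (CommRingCat.of A))] in
theorem app_trans_hom {C D : Type*} [Category C] [Category D] {F G H : C ⥤ D} (a : F ≅ G) (b : G ≅ H) (N : C) :
    ((a ≪≫ b).app N).hom = (a.app N ≪≫ b.app N).hom := rfl

omit [(Spec (CommRingCat.of A)).Over (Spec (CommRingCat.of A))] in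
theorem complTransIso_app {X : Scheme.{u}} (𝓘 : X.IdealSheafData) (N : X.Modules) (n : ℕ)
    (hι : (FSch.completionAlong X 𝓘).ι n ≫ FSch.completionToX X 𝓘 (n + 1) = FSch.completionToX X 𝓘 n) :
    ((FSch.complTransIso 𝓘 n).app N).hom =
      ((Scheme.Modules.pullbackComp ((FSch.completionAlong X 𝓘).ι n) (FSch.completionToX X 𝓘 (n + 1))).app N ≪≫
        (Scheme.Modules.pullbackCongr hι).app N).hom :=
  (congrArg (fun T => ((T : _ ≅ _).app N).hom) (complTransIso_eq 𝓘 n)).trans (app_trans_hom _ _ N)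

include hover in
/-- Coherent systems on the completion of the spectrum of a complete Noetherian ring are completions. -/
theorem exists_iso_complMod_of_isCoh [IsNoetherianRing A] (J : Ideal A) [IsAdicComplete J A]
    (𝔐 : FSch.ModSys (FSch.completionAlong (Spec (CommRingCat.of A)) (FSch.idealSpec A J))) (h𝔐 : 𝔐.IsCoh) :
    ∃ M : ModuleCat.{u} A, Module.Finite A M ∧
      Nonempty (𝔐 ≅ FSch.complMod (FSch.idealSpec A J) (tilde (R := CommRingCat.of A) M)) := by
  let S := FSch.completionAlong (Spec (CommRingCat.of A)) (FSch.idealSpec A J)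
  let i : ∀ n, S.X n ⟶ Spec (CommRingCat.of A) := FSch.completionToX (Spec (CommRingCat.of A)) (FSch.idealSpec A J)
  haveI : ∀ n, IsClosedImmersion (i n) := fun n =>
    inferInstanceAs (IsClosedImmersion (FSch.idealSpec A J ^ (n + 1)).subschemeι)
  have hι : ∀ n, S.ι n ≫ i (n + 1) = i n := fun n => Scheme.IdealSheafData.inclusion_subschemeι _
  have hker : ∀ n (W : (Spec (CommRingCat.of A)).Opens), IsAffineOpen W →
      RingHom.ker ((i n).app W).hom = (J ^ (n + 1)).map (H24Formal.scalA A W) :=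
    fun n W hW => ker_app_subscheme A hover J n W hW
  obtain ⟨M, hM, ⟨ψ⟩⟩ := H24Formal.exists_completion_iso_of_isCohFormal_spec A J hover _
    (isCohFormal_pushSys J S.ι i hι hker 𝔐.F h𝔐 𝔐.e)
  obtain ⟨α, hα⟩ := exists_isIso_of_completion_iso J S.ι i hι hker 𝔐.F h𝔐 𝔐.e ψ
  refine ⟨M, hM, nonempty_iso_of_levels 𝔐 (FSch.complMod (FSch.idealSpec A J) (tilde (R := CommRingCat.of A) M)) α fun n => ?_⟩
  refine (hα n).trans (congrArg (· ≫ (α n).hom) ?_)
  rw [FSch.complMod_e]
  exact (complTransIso_app (FSch.idealSpec A J) (tilde (R := CommRingCat.of A) M) n (hι n)).symm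

include hover in
/-- Coherent systems on `spf A J` are levelwise the quotients of a finite module. -/
theorem exists_isDeltaOf_of_isCoh [IsNoetherianRing A] (J : Ideal A) [IsAdicComplete J A]
    (𝔐 : FSch.ModSys (FSch.spf A J)) (h𝔐 : 𝔐.IsCoh) :
    ∃ M : ModuleCat.{u} A, Module.Finite A M ∧ FSch.ModSys.IsDeltaOf A J M 𝔐 := by
  let S := FSch.spf A J
  let i : ∀ n, S.X n ⟶ Spec (CommRingCat.of A) := fun n => CohB1.specQuot J n
  haveI : ∀ n, IsClosedImmersion (i n) := fun n =>
    IsClosedImmersion.spec_of_surjective _ Ideal.Quotient.mk_surjective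
  have hι : ∀ n, S.ι n ≫ i (n + 1) = i n := fun n => by
    show Spec.map _ ≫ Spec.map _ = Spec.map _
    rw [← Spec.map_comp, ← CommRingCat.ofHom_comp]
    rfl
  have hker : ∀ n (W : (Spec (CommRingCat.of A)).Opens), IsAffineOpen W →
      RingHom.ker ((i n).app W).hom = (J ^ (n + 1)).map (H24Formal.scalA A W) :=
    fun n W hW => ker_app_spf A hover J n W hW
  obtain ⟨M, hM, ⟨ψ⟩⟩ := H24Formal.exists_completion_iso_of_isCohFormal_spec A J hover _
    (isCohFormal_pushSys J S.ι i hι hker 𝔐.F h𝔐 𝔐.e)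
  obtain ⟨α, -⟩ := exists_isIso_of_completion_iso J S.ι i hι hker 𝔐.F h𝔐 𝔐.e ψ
  refine ⟨M, hM, fun n => ?_⟩
  obtain ⟨e⟩ := nonempty_pullback_tilde_iso A (J ^ (n + 1)) M
  exact ⟨(α n).symm ≪≫ e⟩

end Groth.Agent.H24FSch
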